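import Cfsg.Agent.MK.Y.Hd
import Cfsg.Agent.MK.Defs
import Cfsg.Agent.H684.OQ.Av
import Cfsg.Agent.Blocks.Basic

/-!
# MK-Y1: the deformation theorem `core : Core` (helper15)
-/

set_option autoImplicit false
set_option linter.unusedSectionVars false

namespace Cfsg.Agent.MK.Y

open Cfsg MonoidAlgebra Cfsg.Agent.H684.OQ
open scoped ComplexConjugate

section avg

variable {H : Type} [Group H] [Fintype H] (U : Subgroup H)

/-- the idempotent of a subgroup -/
noncomputable def eU : MonoidAlgebra ℂ H := av (1 : U →* ℂˣ)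

theorem eU_def [Fintype U] : eU U = (Nat.card U : ℂ)⁻¹ • ∑ u : U, single (u : H) (1 : ℂ) := by
  rw [eU, av_def]
  simp [dl]

theorem eU_idem : eU U * eU U = eU U := av_mul_av _

variable {U}

theorem single_eU {u : H} (hu : u ∈ U) : single u (1 : ℂ) * eU U = eU U := by
  simpa [dl, eU] using dl_mul_av (1 : U →* ℂˣ) ⟨u, hu⟩

theorem eU_single {u : H} (hu : u ∈ U) : eU U * single u (1 : ℂ) = eU U := by
  simpa [dl, eU] using av_mul_dl (1 : U →* ℂˣ) ⟨u, hu⟩

theorem eU_dc {u v : H} (hu : u ∈ U) (hv : v ∈ U) (g : H) :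
    eU U * single (u * g * v) 1 * eU U = eU U * single g 1 * eU U := by
  have e : single (u * g * v) (1 : ℂ) = single u 1 * (single g 1 * single v 1) := by
    rw [single_mul_single, single_mul_single, one_mul, one_mul, mul_assoc]
  rw [e, ← mul_assoc, eU_single hu, mul_assoc, mul_assoc, single_eU hv, mul_assoc]

theorem eU_mem {S : Submodule ℂ (MonoidAlgebra ℂ H)} {a b : MonoidAlgebra ℂ H}
    (h : ∀ u ∈ U, a * single u 1 * b ∈ S) : a * eU U * b ∈ S := by
  have := Fintype.ofFinite U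
  rw [eU_def, mul_smul_comm, smul_mul_assoc, Finset.mul_sum, Finset.sum_mul]
  exact S.smul_mem _ (S.sum_mem fun u _ => h u u.2)

theorem eU_avg {a b c : MonoidAlgebra ℂ H} (h : ∀ u ∈ U, a * single u 1 * b = c) : a * eU U * b = c :=
  avg_eq _ fun u => by simpa [dl] using h u u.2

variable (U)

theorem sr_eU : sr (eU U) = eU U := by
  have := Fintype.ofFinite U
  have h1 : ∀ u ∈ U, sr (eU U) * single u 1 * 1 = sr (eU U) := fun u hu => by
    have := congrArg sr (single_eU (inv_mem hu))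
    rwa [sr_mul, sr_single, inv_inv, ← mul_one (_ * _)] at this
  have h2 := eU_avg h1
  have h3 := congrArg sr h2
  have ss : ∀ a : MonoidAlgebra ℂ H, sr (sr a) = a := fun a => al_ext fun g => by simp [coeff_sr]
  rw [mul_one] at h2 h3
  rw [sr_mul, ss, h2] at h3
  exact h3

theorem ev_eU (χ : H → ℂ) : ev χ (eU U) = (Nat.card U : ℂ)⁻¹ * ∑ᶠ u : U, χ u := by
  have := Fintype.ofFinite U
  rw [ev_eq, eU_def, map_smul, map_sum, finsum_eq_sum_of_fintype, smul_eq_mul]
  simp [Blocks.GroupAlg.lin_single]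

theorem eU_ne (g : H) : eU U * single g 1 * eU U ≠ 0 := by
  have := Fintype.ofFinite U
  let φ : MonoidAlgebra ℂ H →ₐ[ℂ] ℂ := MonoidAlgebra.lift ℂ ℂ H 1
  have h1 : ∀ g, φ (single g 1) = 1 := fun g => by simp [φ]
  have h2 : φ (eU U) = 1 := by
    rw [eU_def, map_smul, map_sum]
    simp [h1]
  intro h
  have := congrArg φ h
  rw [map_mul, map_mul, h1, h2, map_zero] at this
  simp at this

end avg

variable {G : Type} [Group G] [Finite G] {H U N : Subgroup G} {len : G → ℕ}

theorem len_of (D : YD H U N len) : Len fun n : N => len n where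
  one := D.one
  inv n := D.inv n n.2
  zero t ht n := (D.zero t t.2 ht).2 n n.2
  step s hs n := D.step s s.2 hs n n.2
  desc n hn := by
    obtain ⟨s, hs, h⟩ := D.desc n n.2 hn
    exact ⟨⟨s, hs⟩, h⟩

theorem hd_of [Fintype H] (D : YD H U N len) : HD (eU (U.subgroupOf H)) (Subgroup.inclusion D.nH) fun n : N => len n := by
  have hU : ∀ u (hu : u ∈ U), (⟨u, D.uH hu⟩ : H) ∈ U.subgroupOf H := fun u hu => hu
  have dc : ∀ (g : H) (n : N), ∀ u ∈ U, ∀ v ∈ U, (g : G) = u * n * v →
      eU (U.subgroupOf H) * single g 1 * eU (U.subgroupOf H) = hk (eU (U.subgroupOf H)) (Subgroup.inclusion D.nH) n := by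
    intro g n u hu v hv e
    rw [hk, ← eU_dc (hU u hu) (hU v hv) (Subgroup.inclusion D.nH n)]
    congr 3
    exact Subtype.ext e
  have prod : ∀ (a b : N) (u : H), eU (U.subgroupOf H) * single (Subgroup.inclusion D.nH a) 1 * single u 1 *
      (single (Subgroup.inclusion D.nH b) 1 * eU (U.subgroupOf H)) =
      eU (U.subgroupOf H) * single (Subgroup.inclusion D.nH a * u * Subgroup.inclusion D.nH b) 1 * eU (U.subgroupOf H) := by
    intro a b u
    rw [← mul_assoc, mul_assoc (eU _), single_mul_single, mul_assoc (eU _), single_mul_single, one_mul, one_mul]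
  have prod' : ∀ a b : N, hk (eU (U.subgroupOf H)) (Subgroup.inclusion D.nH) a *
      hk (eU (U.subgroupOf H)) (Subgroup.inclusion D.nH) b = eU (U.subgroupOf H) * single (Subgroup.inclusion D.nH a) 1 *
      eU (U.subgroupOf H) * (single (Subgroup.inclusion D.nH b) 1 * eU (U.subgroupOf H)) := by
    intro a b
    rw [hk, hk, mul_assoc (eU _) (single _ _) (eU _), mul_assoc (eU _) (single _ _) (eU _), ← mul_assoc, mul_assoc (eU _),
      mul_assoc (single _ _), eU_idem]
  refine ⟨len_of D, eU_idem _, fun g => ?_, fun g => ?_, fun n _ => eU_ne _ _, fun n hn => ?_, fun t ht => ?_,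
    fun s n hs hl => ?_, fun s hs => ?_⟩
  · rw [← sr_eU, coeff_sr, inv_inv, sr_eU]
  · obtain ⟨u, hu, n, hn, v, hv, e⟩ := D.cover g g.2
    rw [dc g ⟨n, hn⟩ u hu v hv e]
    exact Submodule.subset_span ⟨_, rfl⟩
  · classical
    rw [← ip_one, hk, ← mul_one (_ * eU _)]
    refine eU_mem (S := LinearMap.ker (ipL 1)) fun v hv => ?_
    rw [mul_one, mul_assoc, ← one_mul (eU _)]
    refine eU_mem fun u hu => ?_
    rw [one_mul, single_mul_single, single_mul_single, LinearMap.mem_ker]
    show ip _ _ = 0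
    rw [ip_one, coeff_single, Finsupp.single_apply, if_neg]
    intro e
    refine hn (Subtype.ext (D.uniq n n.2 1 (one_mem _) u hu v hv ?_))
    rw [mul_assoc]
    exact congrArg Subtype.val e
  · refine (dl_comm_av (1 : U.subgroupOf H →* ℂˣ) ?_ fun _ _ => rfl).symm
    refine Subgroup.mem_normalizer_iff.2 fun u => ⟨fun hu => (D.zero t t.2 ht).1 u hu, fun hu => ?_⟩
    have h := (D.zero t⁻¹ (inv_mem t.2) ((D.inv t t.2).trans ht)).1 _ hu
    have e : (t : G)⁻¹ * ((Subgroup.inclusion D.nH t * u * (Subgroup.inclusion D.nH t)⁻¹ : H) : G) * (t : G)⁻¹⁻¹ = u := by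
      simp [mul_assoc]
    exact Subgroup.mem_subgroupOf.2 (e ▸ h)
  · rw [prod']
    refine eU_avg fun u hu => ?_
    obtain ⟨u', hu', v, hv, e⟩ := D.up s s.2 hs n n.2 hl u hu
    rw [prod]
    exact dc _ (s * n) u' hu' v hv e
  · rw [prod']
    refine eU_mem fun u hu => ?_
    rw [prod]
    rcases D.quad s s.2 hs u hu with h | ⟨t, ht, h0, u', hu', v, hv, e⟩
    · rw [eU_single (U := U.subgroupOf H) h, eU_idem]
      exact Submodule.subset_span (Or.inl rfl)
    · rw [dc _ (⟨t, ht⟩ * s⁻¹) u' hu' v hv e]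
      exact Submodule.subset_span (Or.inr ⟨⟨t, ht⟩, h0, rfl⟩)

/-- **the deformation theorem** -/
theorem core : Core := by
  intro G _ _ H U N Z len l d D hZ hN h0 hd
  have := Fintype.ofFinite H
  have := Fintype.ofFinite N
  have key := (hd_of D).count (Z := Z) (fun z => ⟨z, hN z.2⟩)
    (fun z => Subgroup.mem_center_iff.2 fun g => Subtype.ext (Subgroup.mem_center_iff.1 (hZ z.2) g))
    (fun z => h0 z z.2) (fun z => l z) hd
  refine (Nat.card_congr (Equiv.subtypeEquivRight fun χ => and_congr_right fun _ => and_congr ?_ ?_)).trans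
    (key.trans (Nat.card_congr (Equiv.subtypeEquivRight fun ψ => and_congr_right fun hψ => and_congr ?_ ?_)))
  · exact ⟨fun h z => h _ z.2, fun h g hg => h ⟨g, hg⟩⟩
  · rw [ev_eU, mu]
  · exact ⟨fun h g hg => h ⟨g, hg⟩, fun h z => h _ z.2⟩
  · rw [Blocks.Basic.irr_one_eq_charDegree hψ, Nat.cast_inj]

end Cfsg.Agent.MK.Y
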