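import Cfsg.Agent.MK.Y.Hd
import Cfsg.Agent.Blocks.Basic

/-!
# MK-Y1: the abstract idempotent form `YA`, `coreI : CoreI` (helper15)

`τ 1` is a self adjoint idempotent `e` of `ℂH`, the `τ n` span `e ℂH e` and multiply as in a Yokonuma-Hecke algebra.
-/

set_option autoImplicit false
set_option linter.unusedSectionVars false

namespace Cfsg.Agent.MK.Y

open Cfsg Matrix MonoidAlgebra
open scoped ComplexConjugate

/-- **the abstract datum** -/
structure YA {H N : Type} [Group H] [Group N] (len : N → ℕ) (t : N → MonoidAlgebra ℂ H) : Prop where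
  one : len 1 = 0
  inv : ∀ n, len n⁻¹ = len n
  zero : ∀ a n, len a = 0 → len (a * n) = len n ∧ t (a * n) = t a * t n
  step : ∀ s n, len s = 1 → len (s * n) = len n + 1 ∨ len (s * n) + 1 = len n
  desc : ∀ n, len n ≠ 0 → ∃ s, len s = 1 ∧ len (s * n) + 1 = len n
  up : ∀ s n, len s = 1 → len (s * n) = len n + 1 → t s * t n = t (s * n)
  quad : ∀ s, len s = 1 → ∃ k : ℂ, k ≠ 0 ∧
    t s * t s⁻¹ - k • t 1 ∈ Submodule.span ℂ (t '' {a | ∃ h, len h = 0 ∧ a = h * s⁻¹})
  star : ∀ n g, (t n⁻¹).coeff g = conj ((t n).coeff g⁻¹)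
  span : ∀ x, t 1 * x * t 1 ∈ Submodule.span ℂ (Set.range t)
  tr : ∀ n, n ≠ 1 → (t n).coeff 1 = 0
  ne : t 1 ≠ 0

/-- **the deformation theorem, idempotent form** -/
def CoreI : Prop :=
  ∀ (G N : Type) [Group G] [Finite G] [Group N] [Finite N] (len : N → ℕ) (t : N → MonoidAlgebra ℂ G), YA len t →
    ∀ d : ℕ, d ≠ 0 → Nat.card {χ : G → ℂ // IsIrrCharacter G χ ∧ Blocks.GroupAlg.lin χ (t 1) = d} =
      Nat.card {ψ : N → ℂ // IsIrrCharacter N ψ ∧ charDegree ψ = d}

variable {H : Type} [Group H] [Fintype H] {N : Type} [Group N]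

/-- the normalised basis -/
noncomputable def oc (τ : N → MonoidAlgebra ℂ H) (n : N) : MonoidAlgebra ℂ H :=
  ((√(nq (τ 1) / nq (τ n)) : ℝ) : ℂ) • τ n

/-- the matrices of the regular representation -/
noncomputable def mc (τ : N → MonoidAlgebra ℂ H) (a : N) : Matrix N N ℂ :=
  fun k n => ip (oc τ a * oc τ n) (oc τ k) / nq (τ 1)

namespace YA

variable {len : N → ℕ} {τ : N → MonoidAlgebra ℂ H} (D : YA len τ)
include D

theorem ln : Len len :=
  ⟨D.one, D.inv, fun t ht n => (D.zero t n ht).1, fun s hs n => D.step s n hs, D.desc⟩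

theorem sr_hk (n : N) : sr (τ n) = τ n⁻¹ := al_ext fun g => by rw [coeff_sr, D.star]

theorem hk_zero {t : N} (ht : len t = 0) (n : N) : τ t * τ n = τ (t * n) := (D.zero t n ht).2.symm

theorem e_hk (n : N) : τ 1 * τ n = τ n := by rw [D.hk_zero D.one, one_mul]

theorem hk_e (n : N) : τ n * τ 1 = τ n := by
  have := congrArg sr (D.e_hk n⁻¹)
  rwa [sr_mul, D.sr_hk, D.sr_hk, inv_inv, inv_one] at this

theorem up' {a n : N} (ha : len a ≤ 1) (h : len (a * n) = len a + len n) : τ a * τ n = τ (a * n) := by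
  by_cases h0 : len a = 0
  · exact D.hk_zero h0 n
  · exact D.up a n (by omega) (by omega)

theorem down {s : N} (hs : len s = 1) : ∃ c : ℂ, c ≠ 0 ∧ ∀ n, len (s * n) + 1 = len n →
    ∃ y ∈ Submodule.span ℂ {x | ∃ j, len j = len n ∧ x = τ j}, τ s * τ n = c • τ (s * n) + y := by
  obtain ⟨c, hc, hz⟩ := D.quad s hs
  obtain ⟨z, h⟩ : ∃ z, z = τ s * τ s⁻¹ - c • τ 1 := ⟨_, rfl⟩
  rw [← h] at hz
  replace h : τ s * τ s⁻¹ = c • τ 1 + z := by rw [h, add_sub_cancel]
  refine ⟨c, hc, fun n hn => ⟨z * τ (s * n), ?_, ?_⟩⟩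
  all_goals
    have e1 : τ s⁻¹ * τ (s * n) = τ n := by
      rw [D.up s⁻¹ _ (by rw [D.ln.inv, hs]) (by rw [inv_mul_cancel_left, hn]), inv_mul_cancel_left]
  · clear h
    induction hz using Submodule.span_induction with
    | mem x hx =>
      obtain ⟨_, ⟨t, ht, rfl⟩, rfl⟩ := hx
      rw [← D.hk_zero ht, mul_assoc, e1, D.hk_zero ht]
      exact Submodule.subset_span ⟨_, D.ln.zero t ht n, rfl⟩
    | zero => simp
    | add x y _ _ hx hy => rw [add_mul]; exact add_mem hx hy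
    | smul a x _ hx => rw [smul_mul_assoc]; exact Submodule.smul_mem _ _ hx
  · rw [← e1, ← mul_assoc, h, add_mul, smul_mul_assoc, D.e_hk]

theorem orth_le (m : N) : ∀ n, len m ≤ len n → n ≠ m → ip (τ n) (τ m) = 0 := by
  induction m using D.ln.indL with
  | h0 t ht =>
    intro n _ hn
    rw [← mul_one (τ t), ip_mul, D.sr_hk, D.hk_zero (by rwa [D.ln.inv]), ip_one]
    exact D.tr _ fun h => hn (by rw [inv_mul_eq_one] at h; exact h.symm)
  | h1 s m hs hl ih =>
    intro n hn hne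
    have hs' : len s⁻¹ = 1 := by rw [D.ln.inv, hs]
    have hne' : s⁻¹ * n ≠ m := fun h => hne (by rw [← h, mul_inv_cancel_left])
    rw [← D.up s m hs hl, ip_mul, D.sr_hk]
    rcases D.ln.step _ hs' n with h | h
    · rw [D.up _ _ hs' h]
      exact ih _ (by omega) hne'
    · obtain ⟨c, -, hc⟩ := D.down hs'
      obtain ⟨y, hy, h2⟩ := hc n h
      rw [h2, ip_add, ip_smul, ih _ (by omega) hne', mul_zero, zero_add]
      refine ip_span hy ?_
      rintro x ⟨j, hj, rfl⟩
      exact ih j (by omega) fun h3 => by rw [h3] at hj; omega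

theorem orth {m n : N} (h : n ≠ m) : ip (τ n) (τ m) = 0 := by
  rcases le_total (len m) (len n) with h1 | h1
  · exact D.orth_le m n h1 h
  · rw [← ip_conj, D.orth_le n m h1 h.symm, map_zero]

theorem nq_zero {t : N} (ht : len t = 0) (n : N) : nq (τ (t * n)) = nq (τ n) := by
  have h : ip (τ (t * n)) (τ t * τ n) = ip (τ n) (τ n) := by
    rw [ip_mul, D.sr_hk, D.hk_zero (by rwa [D.ln.inv]), inv_mul_cancel_left]
  rw [D.hk_zero ht, ip_self, ip_self] at h
  exact_mod_cast h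

theorem nq_up {a : N} (hs : len a = 1) : ∃ c : ℂ, c ≠ 0 ∧ ∀ m, len (a * m) = len m + 1 →
    (nq (τ (a * m)) : ℂ) = c * nq (τ m) := by
  obtain ⟨c, hc0, hc⟩ := D.down (s := a⁻¹) (by rw [D.ln.inv, hs])
  refine ⟨c, hc0, fun m hm => ?_⟩
  obtain ⟨y, hy, h2⟩ := hc (a * m) (by rw [inv_mul_cancel_left, hm])
  have h3 : ip y (τ m) = 0 := by
    refine ip_span hy ?_
    rintro x ⟨j, hj, rfl⟩
    exact D.orth fun h3 => by rw [h3] at hj; omega
  rw [← ip_self]
  conv_lhs => enter [2]; rw [← D.up a m hs hm]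
  rw [ip_mul, D.sr_hk, h2, ip_add, h3, add_zero, ip_smul, inv_mul_cancel_left, ip_self]

theorem nq_mul {a n : N} (ha : len a ≤ 1) (h : len (a * n) = len a + len n) :
    nq (τ 1) * nq (τ (a * n)) = nq (τ a) * nq (τ n) := by
  by_cases h0 : len a = 0
  · have := D.nq_zero h0 1
    rw [mul_one] at this
    rw [D.nq_zero h0, this]
  have hs : len a = 1 := by omega
  obtain ⟨c, -, key⟩ := D.nq_up hs
  have h1 := key 1 (by rw [mul_one, hs, D.ln.one])
  have h2 := key n (by omega)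
  rw [mul_one] at h1
  have : (nq (τ 1) : ℂ) * nq (τ (a * n)) = nq (τ a) * nq (τ n) := by rw [h1, h2]; ring
  exact_mod_cast this

theorem nq_e : 0 < nq (τ 1) := nq_pos D.ne

theorem nq_hk (n : N) : 0 < nq (τ n) := by
  induction n using D.ln.indL with
  | h0 t ht =>
    have := D.nq_zero ht 1
    rw [mul_one] at this
    rw [this]
    exact D.nq_e
  | h1 s m hs hl ih =>
    obtain ⟨c, hc, key⟩ := D.nq_up hs
    refine nq_pos fun h0 => ?_
    have h1 := key m hl
    rw [h0, ← ip_self, ← zero_smul ℂ (0 : MonoidAlgebra ℂ H), ip_smul, zero_mul] at h1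
    exact mul_ne_zero hc (by exact_mod_cast ih.ne') h1.symm

theorem nq_ne : ((nq (τ 1) : ℝ) : ℂ) ≠ 0 := by exact_mod_cast D.nq_e.ne'

theorem nb_one : oc τ 1 = τ 1 := by rw [oc, div_self D.nq_e.ne', Real.sqrt_one, Complex.ofReal_one, one_smul]

theorem sr_nb (n : N) : sr (oc τ n) = oc τ n⁻¹ := by rw [oc, oc, sr_smul, ← D.sr_hk, nq_sr]

theorem nb_up {a n : N} (ha : len a ≤ 1) (h : len (a * n) = len a + len n) : oc τ a * oc τ n = oc τ (a * n) := by
  rw [oc, oc, oc, smul_mul_assoc, mul_smul_comm, smul_smul, D.up' ha h, ← Complex.ofReal_mul,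
    ← Real.sqrt_mul (div_pos D.nq_e (D.nq_hk a)).le]
  congr 3
  rw [div_mul_div_comm, ← D.nq_mul ha h, mul_div_mul_left _ _ D.nq_e.ne']

variable [DecidableEq N]

theorem ip_nb (m n : N) : ip (oc τ m) (oc τ n) = if n = m then (nq (τ 1) : ℂ) else 0 := by
  rw [oc, oc, ip_smul, ip_smul']
  split_ifs with h
  · subst h
    rw [ip_self, ← mul_assoc, ← Complex.ofReal_mul, Real.mul_self_sqrt (div_pos D.nq_e (D.nq_hk n)).le,
      ← Complex.ofReal_mul, div_mul_cancel₀ _ (D.nq_hk n).ne']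
  · rw [D.orth (Ne.symm h), mul_zero, mul_zero]

theorem hk_mem (n : N) : τ n ∈ Submodule.span ℂ (Set.range (oc τ)) := by
  have h0 : ((√(nq (τ 1) / nq (τ n)) : ℝ) : ℂ) ≠ 0 := by
    exact_mod_cast (Real.sqrt_pos.2 (div_pos D.nq_e (D.nq_hk n))).ne'
  have : τ n = ((√(nq (τ 1) / nq (τ n)) : ℝ) : ℂ)⁻¹ • oc τ n := by
    rw [oc, smul_smul, inv_mul_cancel₀ h0, one_smul]
  rw [this]
  exact Submodule.smul_mem _ _ (Submodule.subset_span ⟨n, rfl⟩)

theorem corner (x : MonoidAlgebra ℂ H) : τ 1 * x * τ 1 ∈ Submodule.span ℂ (Set.range (oc τ)) :=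
  Submodule.span_le.2 (by rintro _ ⟨n, rfl⟩; exact D.hk_mem n) (D.span x)

theorem e_nb (n : N) : τ 1 * oc τ n = oc τ n := by rw [oc, mul_smul_comm, D.e_hk]

theorem nb_e (n : N) : oc τ n * τ 1 = oc τ n := by rw [oc, smul_mul_assoc, D.hk_e]

variable [Fintype N]

theorem expand {x : MonoidAlgebra ℂ H} (hx : x ∈ Submodule.span ℂ (Set.range (oc τ))) :
    x = ∑ k, (ip x (oc τ k) / nq (τ 1)) • oc τ k := by
  obtain ⟨c, rfl⟩ := (Submodule.mem_span_range_iff_exists_fun ℂ).1 hx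
  refine Finset.sum_congr rfl fun k _ => ?_
  congr 1
  rw [ip_sum, Finset.sum_eq_single k]
  · rw [ip_smul, D.ip_nb, if_pos rfl, mul_div_cancel_right₀ _ D.nq_ne]
  · intro j _ hj
    rw [ip_smul, D.ip_nb, if_neg hj.symm, mul_zero]
  · simp

theorem nb_mul (a m : N) : oc τ a * oc τ m = ∑ l, mc τ a l m • oc τ l := by
  have := D.corner (oc τ a * oc τ m)
  rw [← mul_assoc, D.e_nb, mul_assoc, D.nb_e] at this
  exact D.expand this

theorem mt_up {a n : N} (ha : len a ≤ 1) (h : len (a * n) = len a + len n) (k : N) :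
    mc τ a k n = if k = a * n then 1 else 0 := by
  rw [mc, D.nb_up ha h, D.ip_nb]
  split_ifs
  · exact div_self D.nq_ne
  · simp

theorem dm : Dm len (mc τ) where
  ln := D.ln
  col n k := by
    rw [mc, D.nb_one, D.nb_e, D.ip_nb]
    split_ifs
    · exact div_self D.nq_ne
    · simp
  mul m n := by
    ext i j
    have h1 : ip (oc τ m * (oc τ n * oc τ j)) (oc τ i) / nq (τ 1) = (mc τ m * mc τ n) i j := by
      rw [D.nb_mul n j, Finset.mul_sum, ip_sum, Finset.sum_div, Matrix.mul_apply]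
      refine Finset.sum_congr rfl fun l _ => ?_
      rw [mul_smul_comm, ip_smul, mul_div_assoc, mul_comm]
      rfl
    rw [← h1, ← mul_assoc, D.nb_mul m n, Finset.sum_mul, ip_sum, Finset.sum_div, Matrix.sum_apply]
    refine Finset.sum_congr rfl fun l _ => ?_
    rw [smul_mul_assoc, ip_smul, mul_div_assoc]
    rfl
  star a := by
    ext k n
    rw [conjTranspose_apply, mc, mc, ← D.sr_nb, ← ip_mul, ← ip_conj (oc τ a * oc τ k)]
    simp
  up a n ha h k := D.mt_up ha h k
  down s hs k n hk' := by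
    rcases D.ln.step s hs n with h | h
    · exact D.mt_up hs.le (by omega) k
    have hs' : len s⁻¹ = 1 := by rw [D.ln.inv, hs]
    split_ifs with h1
    · subst h1
      have h2 := D.nb_up (a := s⁻¹) (n := s * n) hs'.le (by rw [inv_mul_cancel_left]; omega)
      rw [inv_mul_cancel_left] at h2
      have h3 := D.sr_nb s⁻¹
      rw [inv_inv] at h3
      rw [mc, ← h3, ← ip_mul, h2, D.ip_nb, if_pos rfl, div_self D.nq_ne]
    · obtain ⟨c, -, hc⟩ := D.down hs
      obtain ⟨y, hy, h2⟩ := hc n h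
      have h3 : ip y (τ k) = 0 := by
        refine ip_span hy ?_
        rintro x ⟨j, hj, rfl⟩
        exact D.orth fun h3 => hk' (by rw [← h3, hj])
      rw [mc, oc, oc, oc, smul_mul_assoc, mul_smul_comm, ip_smul, ip_smul, ip_smul', h2, ip_add, ip_smul, h3,
        D.orth (Ne.symm h1)]
      simp

theorem li : LinearIndependent ℂ (oc τ) := by
  rw [Fintype.linearIndependent_iff]
  intro c hc k
  have h : ip (∑ i, c i • oc τ i) (oc τ k) = 0 := by
    rw [hc]
    exact map_zero (ipL _)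
  rw [ip_sum, Finset.sum_eq_single k] at h
  · rw [ip_smul, D.ip_nb, if_pos rfl] at h
    exact (mul_eq_zero.1 h).resolve_right D.nq_ne
  · intro j _ hj
    rw [ip_smul, D.ip_nb, if_neg hj.symm, mul_zero]
  · simp

end YA

/-- the count over a central character : `f z` is central in `ℂH` and acts as `ζ z` -/
theorem YA.count [Fintype N] {len : N → ℕ} {τ : N → MonoidAlgebra ℂ H} (D : YA len τ) {Z : Type} [Finite Z] (ζ : Z → N)
    (f : Z → MonoidAlgebra ℂ H) (hf : ∀ z x, f z * x = x * f z) (ha : ∀ z n, f z * τ n = τ (ζ z * n))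
    (hc : ∀ z n, ζ z * n = n * ζ z) (h0 : ∀ z, len (ζ z) = 0) (l : Z → ℂ) {d : ℕ} (hd : d ≠ 0) :
    Nat.card {χ : H → ℂ // IsIrrCharacter H χ ∧ (∀ z, ev χ (f z) = l z * χ 1) ∧ ev χ (τ 1) = d} =
      Nat.card {ψ : N → ℂ // IsIrrCharacter N ψ ∧ (∀ z, ψ (ζ z) = l z * ψ 1) ∧ ψ 1 = d} := by
  classical
  obtain ⟨F, hF, col, mul, star, h1, hz, z0, zc⟩ := D.dm.exists_fam
  have key := deform N Z N H 1 F (fun z => lam (ζ z)) 1 (fun n => single n 1) (fun z => single (ζ z) 1) (τ 1) (oc τ)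
    f hF (fun x => ⟨col x, ?_, fun a b => ?_, fun a => ⟨a⁻¹, 1, by simp, by
      rw [one_smul, star]⟩⟩) (fun x => ⟨fun z => ?_, fun z a => zc x _ (h0 z) (hc z) a⟩)
    ⟨one_mul _, fun a => by simp, fun g => ?_, ?_, fun a m => ?_, fun z x => ?_, fun z m => ?_⟩
    ⟨D.e_hk 1, fun a => by rw [D.e_nb, D.nb_e], fun g => D.corner _, D.li, fun a m => ?_, hf, fun z m => ?_⟩ l d hd
  · simp only [cnt, ev_single, one_mul, one_def] at key
    exact key.symm
  · have : F x 1 = 1 := by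
      rw [z0 x 1 D.one]
      ext k n
      simp [lam, Matrix.one_apply]
    exact Submodule.subset_span ⟨1, this⟩
  · rw [mul]
    exact Submodule.sum_mem _ fun k _ => Submodule.smul_mem _ _ (Submodule.subset_span ⟨k, rfl⟩)
  · exact Submodule.subset_span ⟨ζ z, z0 x _ (h0 z)⟩
  · exact Submodule.subset_span ⟨g, by simp⟩
  · exact (MonoidAlgebra.basis N ℂ).linearIndependent
  · rw [hz, sum_lam (fun n => single n (1 : ℂ)), single_mul_single, one_mul]
  · exact single_comm (Subgroup.mem_center_iff.2 fun n => (hc z n).symm) x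
  · rw [sum_lam (fun n => single n (1 : ℂ)), single_mul_single, one_mul]
  · rw [h1, D.nb_mul]
  · rw [sum_lam, oc, oc, mul_smul_comm, ha, D.nq_zero (h0 z)]

/-- **the deformation theorem, idempotent form** -/
theorem coreI : CoreI := by
  intro G N _ _ _ _ len t D d hd
  have := Fintype.ofFinite G
  have := Fintype.ofFinite N
  have key := D.count (Z := Empty) Empty.elim Empty.elim (fun z => z.elim) (fun z => z.elim) (fun z => z.elim)
    (fun z => z.elim) Empty.elim hd
  refine (Nat.card_congr (Equiv.subtypeEquivRight fun χ => and_congr_right fun _ => ?_)).trans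
    (key.trans (Nat.card_congr (Equiv.subtypeEquivRight fun ψ => and_congr_right fun hψ => ?_)))
  · rw [ev_eq]
    simp
  · rw [Blocks.Basic.irr_one_eq_charDegree hψ, Nat.cast_inj]
    simp

end Cfsg.Agent.MK.Y
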