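import Mathlib

/-!
# MK-Y1: the deformation of a Yokonuma-Hecke type algebra to the group algebra (helper15)

`T n` is the matrix of the left multiplication by the `n`-th vector of an orthonormal basis indexed by a finite group `N`
with a length function.  `Dm.exists_fam` : a continuous family `F x` of such systems of matrices, `F 1 = T`, `F 0` the regular
representation of `N`.
-/

set_option autoImplicit false
set_option linter.unusedSectionVars false

namespace Cfsg.Agent.MK.Y

open Matrix
open scoped ComplexConjugate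

variable {N : Type} [Group N]

/-- a length function -/
structure Len (len : N → ℕ) : Prop where
  one : len 1 = 0
  inv : ∀ n, len n⁻¹ = len n
  zero : ∀ t, len t = 0 → ∀ n, len (t * n) = len n
  step : ∀ s, len s = 1 → ∀ n, len (s * n) = len n + 1 ∨ len (s * n) + 1 = len n
  desc : ∀ n, len n ≠ 0 → ∃ s, len s = 1 ∧ len (s * n) + 1 = len n

namespace Len

variable {len : N → ℕ} (h : Len len)
include h

theorem swap (a b : N) : len (a * b) = len (b⁻¹ * a⁻¹) := by rw [← _root_.mul_inv_rev, h.inv]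

theorem zero' {t : N} (ht : len t = 0) (n : N) : len (n * t) = len n := by
  rw [h.swap, h.zero _ (by rw [h.inv, ht]), h.inv]

/-- induction from the left -/
theorem indL {p : N → Prop} (h0 : ∀ t, len t = 0 → p t)
    (h1 : ∀ s m, len s = 1 → len (s * m) = len m + 1 → p m → p (s * m)) (n : N) : p n := by
  induction hn : len n using Nat.strong_induction_on generalizing n with
  | _ k ih =>
    by_cases hk : len n = 0
    · exact h0 n hk
    · obtain ⟨s, hs, hl⟩ := h.desc n hk
      have e : n = s⁻¹ * (s * n) := by group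
      rw [e]
      exact h1 _ _ (by rw [h.inv, hs]) (by rw [← e, hl]) (ih _ (by omega) _ rfl)

/-- induction from the right -/
theorem indR {p : N → Prop} (h0 : ∀ t, len t = 0 → p t)
    (h1 : ∀ s m, len s = 1 → len (m * s) = len m + 1 → p m → p (m * s)) (n : N) : p n := by
  have := h.indL (p := fun n => p n⁻¹) (fun t ht => h0 _ (by rw [h.inv, ht]))
    (fun s m hs hl hm => by
      rw [_root_.mul_inv_rev]
      exact h1 _ _ (by rw [h.inv, hs]) (by rw [← h.swap, hl, h.inv]) hm) n⁻¹
  rwa [inv_inv] at this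

end Len

variable [Fintype N] [DecidableEq N]

/-- the regular representation -/
def lam (a : N) : Matrix N N ℂ := fun k n => if k = a * n then 1 else 0

/-- the conjugate linear automorphism which exchanges left and right -/
def fl (a : Matrix N N ℂ) : Matrix N N ℂ := fun k n => conj (a k⁻¹ n⁻¹)

theorem fl_mul (a b : Matrix N N ℂ) : fl (a * b) = fl a * fl b := by
  ext k n
  simp only [fl, Matrix.mul_apply, map_sum, map_mul]
  exact Fintype.sum_equiv (Equiv.inv N) _ _ fun j => by simp

theorem fl_add (a b : Matrix N N ℂ) : fl (a + b) = fl a + fl b := by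
  ext k n
  simp [fl]

theorem fl_sub (a b : Matrix N N ℂ) : fl (a - b) = fl a - fl b := by
  ext k n
  simp [fl]

theorem fl_smul (x : ℝ) (a : Matrix N N ℂ) : fl ((x : ℂ) • a) = (x : ℂ) • fl a := by
  ext k n
  simp [fl]

theorem fl_neg (a : Matrix N N ℂ) : fl (-a) = -fl a := by
  ext k n
  simp [fl]

theorem fl_lam (a k n : N) : fl (lam a⁻¹) k n = if k = n * a then 1 else 0 := by
  have e : k⁻¹ = a⁻¹ * n⁻¹ ↔ k = n * a := by rw [← _root_.mul_inv_rev, _root_.inv_inj]
  simp only [fl, lam, e]
  split_ifs <;> simp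

theorem lam_mul_apply (a : N) (b : Matrix N N ℂ) (k n : N) : (lam a * b) k n = b (a⁻¹ * k) n := by
  rw [Matrix.mul_apply, Finset.sum_eq_single (a⁻¹ * k)]
  · simp [lam]
  · intro j _ hj
    have : k ≠ a * j := fun e => hj (by rw [e]; group)
    simp [lam, this]
  · simp

theorem mul_col (a b : Matrix N N ℂ) {n m : N} (h : ∀ k, b k n = if k = m then 1 else 0) (k : N) :
    (a * b) k n = a k m := by
  rw [Matrix.mul_apply, Finset.sum_eq_single m]
  · simp [h]
  · intro j _ hj
    simp [h, hj]
  · simp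

theorem lam_fl (a b : N) : lam a * fl (lam b⁻¹) = fl (lam b⁻¹) * lam a := by
  ext k n
  rw [mul_col _ _ (fun j => fl_lam b j n), mul_col (m := a * n) _ _ (fun j => rfl), fl_lam, lam, mul_assoc]

theorem lam_star (a : N) : (lam a)ᴴ = lam a⁻¹ := by
  ext k n
  have e : n = a * k ↔ k = a⁻¹ * n := by rw [eq_inv_mul_iff_mul_eq, eq_comm]
  simp only [conjTranspose_apply, lam, e]
  split_ifs <;> simp

/-- the parity operator -/
def par (len : N → ℕ) : Matrix N N ℂ := diagonal fun n => (-1) ^ len n

theorem par_sq (len : N → ℕ) : par len * par len = 1 := by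
  rw [par, diagonal_mul_diagonal, ← diagonal_one]
  congr 1
  funext n
  rw [← mul_pow]
  simp

theorem fl_par {len : N → ℕ} (h : Len len) : fl (par len) = par len := by
  ext k n
  by_cases e : k = n
  · subst e
    simp [fl, par, h.inv]
  · simp [fl, par, e]

theorem par_even {len : N → ℕ} {a : Matrix N N ℂ} (ha : ∀ k n, len k ≠ len n → a k n = 0) : par len * a = a * par len := by
  ext k n
  rw [par, diagonal_mul, mul_diagonal]
  by_cases e : len k = len n
  · rw [e, mul_comm]
  · simp [ha k n e]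

theorem par_odd {len : N → ℕ} (h : Len len) {s : N} (hs : len s = 1) : par len * lam s = -(lam s * par len) := by
  ext k n
  rw [par, neg_apply, diagonal_mul, mul_diagonal]
  by_cases e : k = s * n
  · subst e
    rcases h.step s hs n with h1 | h1
    · simp [lam, h1, pow_succ]
    · simp [lam, ← h1, pow_succ]
  · simp [lam, e]

/-- separation of the parities -/
theorem comm_of_par {R : Type} [Ring R] [Algebra ℂ R] {P A0 A1 B0 B1 : R} (hP : P * P = 1)
    (a0 : P * A0 = -(A0 * P)) (a1 : P * A1 = A1 * P) (b0 : P * B0 = -(B0 * P)) (b1 : P * B1 = B1 * P)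
    (h0 : A0 * B0 = B0 * A0) (h1 : (A0 + A1) * (B0 + B1) = (B0 + B1) * (A0 + A1)) (x : ℂ) :
    (A0 + x • A1) * (B0 + x • B1) = (B0 + x • B1) * (A0 + x • A1) := by
  set X := A0 * B1 + A1 * B0 - B1 * A0 - B0 * A1 with hX
  set Y := A1 * B1 - B1 * A1 with hY
  have e1 : X + Y = 0 := by
    have : X + Y = (A0 + A1) * (B0 + B1) - (B0 + B1) * (A0 + A1) - (A0 * B0 - B0 * A0) := by
      rw [hX, hY]
      noncomm_ring
    rw [this, h1, h0]
    simp
  have m : ∀ {a b : R} {u v : ℤ}, P * a = u • (a * P) → P * b = v • (b * P) → P * (a * b) = (u * v) • (a * b * P) := by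
    intro a b u v ha hb
    rw [← mul_assoc, ha, smul_mul_assoc, mul_assoc, hb, mul_smul_comm, smul_smul, mul_assoc]
  have a0' : P * A0 = (-1 : ℤ) • (A0 * P) := by simpa using a0
  have b0' : P * B0 = (-1 : ℤ) • (B0 * P) := by simpa using b0
  have a1' : P * A1 = (1 : ℤ) • (A1 * P) := by simpa using a1
  have b1' : P * B1 = (1 : ℤ) • (B1 * P) := by simpa using b1
  have eX : P * X = -(X * P) := by
    rw [hX, mul_sub, mul_sub, mul_add, m a0' b1', m a1' b0', m b1' a0', m b0' a1']
    simp only [mul_one, one_mul, neg_smul, one_smul, sub_mul, add_mul]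
    abel
  have eY : P * Y = Y * P := by
    rw [hY, mul_sub, m a1' b1', m b1' a1']
    simp [sub_mul]
  have e2 : -X + Y = 0 := by
    have h2 : P * (X + Y) * P = 0 := by rw [e1]; simp
    rwa [mul_add, eX, eY, add_mul, neg_mul, mul_assoc, mul_assoc, hP, mul_one, mul_one] at h2
  have e3 : Y = 0 := by
    have h3 : (2 : ℂ) • Y = 0 := by
      rw [two_smul]
      have : Y + Y = (X + Y) + (-X + Y) := by abel
      rw [this, e1, e2, add_zero]
    have h4 := congrArg (fun z => (2 : ℂ)⁻¹ • z) h3
    simpa [smul_smul] using h4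
  have e4 : X = 0 := by rwa [e3, add_zero] at e1
  have : (A0 + x • A1) * (B0 + x • B1) - (B0 + x • B1) * (A0 + x • A1) =
      (A0 * B0 - B0 * A0) + x • X + (x * x) • Y := by
    rw [hX, hY]
    simp only [mul_add, add_mul, smul_mul_assoc, mul_smul_comm, smul_add, smul_sub, smul_smul]
    abel
  rw [← sub_eq_zero, this, e3, e4, h0]
  simp

/-- the system of matrices at the parameter one -/
structure Dm (len : N → ℕ) (T : N → Matrix N N ℂ) : Prop where
  ln : Len len
  col : ∀ n k, T n k 1 = if k = n then 1 else 0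
  mul : ∀ m n, T m * T n = ∑ k, T m k n • T k
  star : ∀ n, (T n)ᴴ = T n⁻¹
  up : ∀ a n, len a ≤ 1 → len (a * n) = len a + len n → ∀ k, T a k n = if k = a * n then 1 else 0
  down : ∀ s, len s = 1 → ∀ k n, len k ≠ len n → T s k n = if k = s * n then 1 else 0

/-- the deformed left multiplication by a generator -/
noncomputable def Lx (T : N → Matrix N N ℂ) (x : ℝ) (a : N) : Matrix N N ℂ := lam a + (x : ℂ) • (T a - lam a)

/-- the deformed right multiplication by a generator -/
noncomputable def Rx (T : N → Matrix N N ℂ) (x : ℝ) (a : N) : Matrix N N ℂ := fl (Lx T x a⁻¹)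

theorem Rx_eq (T : N → Matrix N N ℂ) (x : ℝ) (a : N) :
    Rx T x a = fl (lam a⁻¹) + (x : ℂ) • fl (T a⁻¹ - lam a⁻¹) := by rw [Rx, Lx, fl_add, fl_smul]

namespace Dm

variable {len : N → ℕ} {T : N → Matrix N N ℂ} (D : Dm len T)
include D

theorem star' (a k n : N) : conj (T a n k) = T a⁻¹ k n := by
  rw [← D.star]
  rfl

theorem row (a n : N) : T a 1 n = if n = a⁻¹ then 1 else 0 := by
  have := D.star' a⁻¹ 1 n
  rw [inv_inv, D.col] at this
  rw [← this]
  split_ifs <;> simp

/-- the trace form -/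
theorem tau (a b : N) : (T a * T b) 1 1 = if b = a⁻¹ then 1 else 0 := by rw [mul_col _ _ (D.col b), D.row]

theorem tau3 (a b c : N) : (T a * T b * T c) 1 1 = T b a⁻¹ c := by
  rw [mul_col _ _ (D.col c), Matrix.mul_apply, Finset.sum_eq_single a⁻¹]
  · simp [D.row]
  · intro j _ hj
    simp [D.row, hj]
  · simp

theorem tau3' (a b c : N) : (T a * T b * T c) 1 1 = T a c⁻¹ b := by
  rw [D.mul, Finset.sum_mul, Matrix.sum_apply, Finset.sum_eq_single c⁻¹]
  · simp [D.tau]
  · intro j _ hj
    have : c ≠ j⁻¹ := fun e => hj (by rw [e, inv_inv])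
    simp [D.tau, this]
  · simp

/-- the right multiplication -/
theorem fl_T (m k n : N) : fl (T m⁻¹) k n = T n k m := by
  have h1 := D.tau3 k⁻¹ n m
  have h2 := D.tau3' k⁻¹ n m
  have h3 := D.tau3 m k⁻¹ n
  have h4 := D.tau3' m k⁻¹ n
  rw [inv_inv] at h1
  rw [fl, D.star', inv_inv, ← h4, h3, ← h2, h1]

theorem T_fl (a b : N) : T a * fl (T b⁻¹) = fl (T b⁻¹) * T a := by
  ext k n
  have h := congrFun (congrFun (D.mul a n) k) b
  rw [Matrix.mul_apply, Matrix.sum_apply] at h
  simp only [Matrix.mul_apply, D.fl_T]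
  rw [h]
  exact Finset.sum_congr rfl fun j _ => by rw [Matrix.smul_apply, smul_eq_mul, mul_comm]

theorem T_zero {t : N} (ht : len t = 0) : T t = lam t := by
  ext k n
  exact D.up t n (by omega) (by rw [D.ln.zero t ht, ht, zero_add]) k

theorem even {s : N} (hs : len s = 1) : par len * (T s - lam s) = (T s - lam s) * par len :=
  par_even fun k n h => by rw [Matrix.sub_apply, D.down s hs k n h, lam, sub_self]

theorem comm (x : ℝ) {a b : N} (ha : len a ≤ 1) (hb : len b ≤ 1) : Lx T x a * Rx T x b = Rx T x b * Lx T x a := by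
  have h1 := D.T_fl a b
  have h0 := lam_fl a b
  have hb' : len b⁻¹ = len b := D.ln.inv b
  rw [Rx_eq, Lx]
  by_cases ha0 : len a = 0
  · rw [D.T_zero ha0] at h1 ⊢
    rw [sub_self, smul_zero, add_zero, fl_sub, mul_add, add_mul, mul_smul_comm, smul_mul_assoc, mul_sub, sub_mul, h0, h1]
  by_cases hb0 : len b = 0
  · rw [D.T_zero (hb'.trans hb0)] at h1 ⊢
    rw [fl_sub, sub_self, smul_zero, add_zero, mul_add, add_mul, mul_smul_comm, smul_mul_assoc, mul_sub, sub_mul, h0, h1]
  have ha1 : len a = 1 := by omega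
  have hb1 : len b⁻¹ = 1 := by omega
  refine comm_of_par (par_sq len) (par_odd D.ln ha1) (D.even ha1) ?_ ?_ h0 ?_ _
  · have := congrArg fl (par_odd D.ln hb1)
    rwa [fl_neg, fl_mul, fl_mul, fl_par D.ln] at this
  · have := congrArg fl (D.even hb1)
    rwa [fl_mul, fl_mul, fl_par D.ln] at this
  · rw [← fl_add, add_sub_cancel, add_sub_cancel, h1]

theorem Lx_col (x : ℝ) {a n : N} (ha : len a ≤ 1) (h : len (a * n) = len a + len n) (k : N) :
    Lx T x a k n = if k = a * n then 1 else 0 := by
  simp [Lx, D.up a n ha h k, lam]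

theorem Rx_col (x : ℝ) {a n : N} (ha : len a ≤ 1) (h : len (n * a) = len a + len n) (k : N) :
    Rx T x a k n = if k = n * a then 1 else 0 := by
  have e : k⁻¹ = a⁻¹ * n⁻¹ ↔ k = n * a := by rw [← _root_.mul_inv_rev, _root_.inv_inj]
  rw [Rx, fl, D.Lx_col x (by rwa [D.ln.inv]) (by rw [← D.ln.swap, h, D.ln.inv, D.ln.inv])]
  simp only [e]
  split_ifs <;> simp

theorem Lx_star (x : ℝ) (a : N) : (Lx T x a)ᴴ = Lx T x a⁻¹ := by
  rw [Lx, Lx, conjTranspose_add, conjTranspose_smul, conjTranspose_sub, D.star, lam_star]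
  simp

/-- a matrix which commutes with the right multiplications is determined by its first column -/
theorem ext (x : ℝ) {a b : Matrix N N ℂ} (ha : ∀ s, len s ≤ 1 → a * Rx T x s = Rx T x s * a)
    (hb : ∀ s, len s ≤ 1 → b * Rx T x s = Rx T x s * b) (h : ∀ k, a k 1 = b k 1) : a = b := by
  have key : ∀ s m, len s ≤ 1 → len (m * s) = len s + len m → (∀ k, a k m = b k m) → ∀ k, a k (m * s) = b k (m * s) := by
    intro s m hs hl hm k
    rw [← mul_col a _ (D.Rx_col x hs hl), ← mul_col b _ (D.Rx_col x hs hl), ha s hs, hb s hs, Matrix.mul_apply,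
      Matrix.mul_apply]
    exact Finset.sum_congr rfl fun j _ => by rw [hm]
  have : ∀ n k, a k n = b k n := by
    refine D.ln.indR (fun t ht => ?_) fun s m hs hl hm => key s m hs.le (by omega) hm
    have := key t 1 (by omega) (by rw [one_mul, D.ln.one, add_zero]) h
    rwa [one_mul] at this
  ext k n
  exact this n k

theorem exists_one (n : N) : ∃ f : ℝ → Matrix N N ℂ, Continuous f ∧
    ∀ x, (∀ s, len s ≤ 1 → f x * Rx T x s = Rx T x s * f x) ∧ ∀ k, f x k 1 = if k = n then 1 else 0 := by
  have hc : ∀ a, Continuous fun x : ℝ => Lx T x a := fun a =>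
    continuous_const.add (Complex.continuous_ofReal.smul continuous_const)
  induction n using D.ln.indL with
  | h0 t ht =>
    refine ⟨fun x => Lx T x t, hc t, fun x => ⟨fun s hs => D.comm x (by omega) hs, fun k => ?_⟩⟩
    show Lx T x t k 1 = _
    rw [D.Lx_col x (a := t) (by omega) (by rw [mul_one, D.ln.one, add_zero]), mul_one]
  | h1 s m hs hl ih =>
    obtain ⟨f, hf, h⟩ := ih
    refine ⟨fun x => Lx T x s * f x, (hc s).matrix_mul hf, fun x => ⟨fun b hb => ?_, fun k => ?_⟩⟩
    · rw [mul_assoc, (h x).1 b hb, ← mul_assoc, D.comm x hs.le hb, mul_assoc]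
    · show (Lx T x s * f x) k 1 = _
      rw [mul_col _ _ (h x).2, D.Lx_col x hs.le (by omega)]

/-- **the family** -/
theorem exists_fam : ∃ F : ℝ → N → Matrix N N ℂ, (∀ n, Continuous fun x => F x n) ∧
    (∀ x n k, F x n k 1 = if k = n then 1 else 0) ∧ (∀ x m n, F x m * F x n = ∑ k, F x m k n • F x k) ∧
    (∀ x n, (F x n)ᴴ = F x n⁻¹) ∧ F 1 = T ∧ F 0 = lam ∧ (∀ x t, len t = 0 → F x t = lam t) ∧
    ∀ x z, len z = 0 → (∀ n, z * n = n * z) → ∀ n, lam z * F x n = F x n * lam z := by
  choose f hf h using D.exists_one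
  have gen : ∀ x a, len a ≤ 1 → f a x = Lx T x a := fun x a ha =>
    D.ext x (h a x).1 (fun s hs => D.comm x ha hs) fun k => by
      rw [(h a x).2, D.Lx_col x ha (by rw [mul_one, D.ln.one, add_zero]), mul_one]
  have cm : ∀ x m n s, len s ≤ 1 → f m x * f n x * Rx T x s = Rx T x s * (f m x * f n x) := fun x m n s hs => by
    rw [mul_assoc, (h n x).1 s hs, ← mul_assoc, (h m x).1 s hs, mul_assoc]
  have z0 : ∀ x t, len t = 0 → f t x = lam t := fun x t ht => by
    rw [gen x t (by omega), Lx, D.T_zero ht, sub_self, smul_zero, add_zero]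
  refine ⟨fun x n => f n x, hf, fun x n => (h n x).2, fun x m n => ?_, fun x n => ?_, ?_, ?_, z0, fun x z hz hc n => ?_⟩
  · refine D.ext x (cm x m n) (fun s hs => ?_) fun k => ?_
    · rw [Finset.sum_mul, Finset.mul_sum]
      exact Finset.sum_congr rfl fun j _ => by rw [smul_mul_assoc, mul_smul_comm, (h j x).1 s hs]
    · rw [mul_col _ _ (h n x).2, Matrix.sum_apply, Finset.sum_eq_single k]
      · simp [(h k x).2]
      · intro j _ hj
        simp [(h j x).2, hj.symm]
      · simp
  · induction n using D.ln.indL with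
    | h0 t ht =>
      show (f t x)ᴴ = f t⁻¹ x
      rw [z0 x t ht, z0 x t⁻¹ (by rwa [D.ln.inv]), lam_star]
    | h1 s m hs hl ih =>
      have hs' : len s⁻¹ ≤ 1 := by rw [D.ln.inv, hs]
      have e1 : f (s * m) x = f s x * f m x := D.ext x (h _ x).1 (cm x s m) fun k => by
        rw [mul_col _ _ (h m x).2, gen x s hs.le, D.Lx_col x hs.le (by omega), (h _ x).2]
      have e2 : f (m⁻¹ * s⁻¹) x = f m⁻¹ x * f s⁻¹ x := D.ext x (h _ x).1 (cm x _ _) fun k => by
        have c1 := D.Rx_col x (n := 1) hs' (by rw [one_mul, D.ln.one, add_zero])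
        rw [one_mul] at c1
        rw [mul_col _ _ (h s⁻¹ x).2, ← mul_col (f m⁻¹ x) _ c1, (h _ x).1 _ hs', mul_col _ _ (h m⁻¹ x).2,
          D.Rx_col x hs' (by rw [← D.ln.swap, hl, D.ln.inv, D.ln.inv, hs, add_comm]), (h _ x).2]
      show (f (s * m) x)ᴴ = f (s * m)⁻¹ x
      rw [e1, _root_.mul_inv_rev, e2, conjTranspose_mul, ih, gen x s hs.le, gen x _ hs', D.Lx_star]
  · funext n
    refine D.ext 1 (h n 1).1 (fun s _ => ?_) fun k => ((h n 1).2 k).trans (D.col n k).symm
    rw [Rx, Lx, Complex.ofReal_one, one_smul, add_sub_cancel, D.T_fl]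
  · funext n
    refine D.ext 0 (h n 0).1 (fun s _ => ?_) fun k => ((h n 0).2 k).trans (by rw [lam, mul_one])
    rw [Rx, Lx, Complex.ofReal_zero, zero_smul, add_zero, lam_fl]
  · have e : Rx T x z = lam z := by
      ext k m
      rw [D.Rx_col x (by omega) (by rw [D.ln.zero' hz, hz, zero_add]), lam, hc]
    rw [← e, (h n x).1 z (by omega)]

end Dm

end Cfsg.Agent.MK.Y
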