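import Cfsg.Agent.MK.Y.SymB
import Cfsg.Agent.H992.HT.Trace

/-!
# MK (S4596): the blocks of `e ℂH e`, and `deform : Deform` (helper72)
-/

set_option autoImplicit false
set_option linter.unusedSectionVars false

namespace Cfsg.Agent.MK.Y

open Cfsg Matrix Cfsg.Agent.Blocks.GroupAlg Cfsg.Agent.Characters.Core
open Cfsg.Agent.H992.HT (sg)
open scoped Classical

variable {H : Type} [Group H] [Fintype H]

/-- the sum of the conjugates -/
noncomputable def Sc (a : MonoidAlgebra ℂ H) : MonoidAlgebra ℂ H := ∑ g : H, sg g * a * sg g⁻¹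

theorem Sc_mem (a : MonoidAlgebra ℂ H) : Sc a ∈ Subalgebra.center ℂ (MonoidAlgebra ℂ H) := by
  rw [Subalgebra.mem_center_iff]
  intro b
  have h1 : ∀ x : H, sg x * Sc a = Sc a * sg x := fun x => by
    unfold Sc
    rw [Finset.mul_sum, Finset.sum_mul]
    refine Fintype.sum_equiv (Equiv.mulLeft x) _ _ fun g => ?_
    rw [Equiv.coe_mulLeft, mul_assoc _ (sg (x * g)⁻¹), H992.HT.sg_mul, ← H992.HT.sg_mul x g, _root_.mul_inv_rev,
      inv_mul_cancel_right]
    simp only [mul_assoc]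
  rw [H992.HT.eq_sum b, Finset.sum_mul, Finset.mul_sum]
  exact Finset.sum_congr rfl fun x _ => by rw [smul_mul_assoc, mul_smul_comm, h1]

theorem omega_Sc (χ : IrrCharacter H) (a : MonoidAlgebra ℂ H) :
    omega (χ : H → ℂ) (Sc a) = Nat.card H * lin (χ : H → ℂ) a / (χ : H → ℂ) 1 := by
  unfold Sc
  rw [omega_def, map_sum, Finset.sum_congr rfl (g := fun _ => lin (χ : H → ℂ) a), Finset.sum_const, Finset.card_univ,
    nsmul_eq_mul, Nat.card_eq_fintype_card]
  intro g _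
  rw [H992.HT.lin_comm χ.2, ← mul_assoc, H992.HT.sg_mul, inv_mul_cancel, H992.HT.sg_one, one_mul]

theorem mul_idem {x : MonoidAlgebra ℂ H} (hx : x ∈ Subalgebra.center ℂ (MonoidAlgebra ℂ H)) (χ : IrrCharacter H) :
    x * idem {χ} = omega (χ : H → ℂ) x • idem {χ} := by
  refine ext_omega (Subalgebra.mul_mem _ hx (idem_mem_center _)) (Subalgebra.smul_mem _ (idem_mem_center _) _)
    fun ψ hψ => ?_
  have h1 := omega_idem ({χ} : Set (IrrCharacter H)) ⟨ψ, hψ⟩
  have h2 : omega ψ (omega (χ : H → ℂ) x • idem {χ}) = omega (χ : H → ℂ) x * omega ψ (idem {χ}) := by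
    rw [omega_def ψ, map_smul, smul_eq_mul, mul_div_assoc, ← omega_def]
  rw [omega_mul hψ hx, h2]
  simp only at h1
  rw [h1]
  split_ifs with h
  · rw [← Set.mem_singleton_iff.1 h]
  · rw [mul_zero, mul_zero]

theorem sum_idem [Fintype (IrrCharacter H)] : ∑ χ : IrrCharacter H, idem {χ} = (1 : MonoidAlgebra ℂ H) := by
  refine ext_omega (Subalgebra.sum_mem _ fun χ _ => idem_mem_center _) (Subalgebra.one_mem _) fun ψ hψ => ?_
  have h1 : ∀ χ : IrrCharacter H, lin ψ (idem {χ}) = if χ = ⟨ψ, hψ⟩ then lin ψ 1 else 0 := fun χ => by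
    have h2 := H992.HT.lin_idem_mul {χ} ⟨ψ, hψ⟩ 1
    rw [mul_one] at h2
    exact h2.trans (if_congr (Set.mem_singleton_iff.trans eq_comm) rfl rfl)
  rw [omega_def, omega_def, map_sum]
  simp only [h1]
  rw [Finset.sum_ite_eq', if_pos (Finset.mem_univ _)]

theorem trace_two (x y : MonoidAlgebra ℂ H) [Fintype (IrrCharacter H)] :
    LinearMap.trace ℂ (MonoidAlgebra ℂ H) (LinearMap.mulLeft ℂ x ∘ₗ LinearMap.mulRight ℂ y) =
      ∑ ψ : IrrCharacter H, lin (ψ : H → ℂ) x * lin (ψ : H → ℂ) y := by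
  have hG : (Nat.card H : ℂ) ≠ 0 := card_ne_zero_complex
  have h1 : LinearMap.trace ℂ (MonoidAlgebra ℂ H) (LinearMap.mulLeft ℂ x ∘ₗ LinearMap.mulRight ℂ y) =
      (Sc x * y).coeff 1 := by
    rw [LinearMap.trace_eq_matrix_trace ℂ (MonoidAlgebra.basis H ℂ), Matrix.trace]
    unfold Sc
    rw [Finset.sum_mul, MonoidAlgebra.coeff_sum, Finsupp.finsetSum_apply]
    refine Fintype.sum_equiv (Equiv.inv H) _ _ fun g => ?_
    rw [Matrix.diag_apply, LinearMap.toMatrix_apply, Equiv.inv_apply, inv_inv, mul_assoc, mul_assoc,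
      MonoidAlgebra.coeff_single_mul_apply, one_mul, inv_inv, mul_one]
    rfl
  refine mul_left_cancel₀ hG ?_
  rw [h1, H992.HT.coeff_one, Finset.mul_sum]
  refine Finset.sum_congr rfl fun ψ _ => ?_
  have h2 := isIrr_apply_one_ne_zero ψ.2
  rw [lin_mul_of_mem_center ψ.2 (Sc_mem x), omega_Sc]
  field_simp

variable {κ : Type} [Fintype κ] [DecidableEq κ] {e : MonoidAlgebra ℂ H} {b : κ → MonoidAlgebra ℂ H} {Z : Type}
  {f : Z → MonoidAlgebra ℂ H} {T : κ → Matrix κ κ ℂ} {E : Z → Matrix κ κ ℂ}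

local notation "ep" => Blocks.GroupAlg.idem

namespace Rz

variable (r : Rz H e b f T E)

include r

theorem mem_iff {a : MonoidAlgebra ℂ H} : a ∈ Submodule.span ℂ (Set.range b) ↔ e * a * e = a := by
  constructor
  · intro ha
    obtain ⟨x, rfl⟩ := (Submodule.mem_span_range_iff_exists_fun ℂ).1 ha
    rw [Finset.mul_sum, Finset.sum_mul]
    exact Finset.sum_congr rfl fun k _ => by rw [mul_smul_comm, smul_mul_assoc, r.mem]
  · intro ha
    rw [← ha, H992.HT.eq_sum a, Finset.mul_sum, Finset.sum_mul]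
    exact Submodule.sum_mem _ fun g _ => by
      rw [mul_smul_comm, smul_mul_assoc]
      exact Submodule.smul_mem _ _ (r.span g)

theorem left {a : MonoidAlgebra ℂ H} (ha : e * a * e = a) : e * a = a := by
  rw [← ha, ← mul_assoc, ← mul_assoc, r.idem]

theorem right {a : MonoidAlgebra ℂ H} (ha : e * a * e = a) : a * e = a := by
  rw [← ha, mul_assoc, r.idem]

/-- the regular representation -/
theorem exists_rep : ∃ Φ : MonoidAlgebra ℂ H →ₗ[ℂ] Matrix κ κ ℂ,
    (∀ (a : MonoidAlgebra ℂ H) (A : Matrix κ κ ℂ), (∀ m, a * b m = ∑ l, A l m • b l) → Φ a = A) ∧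
    (∀ a, e * a = a * e → ∀ m, a * b m = ∑ l, Φ a l m • b l) ∧
    ∀ a, e * a * e = a → (Φ a).trace =
      LinearMap.trace ℂ (MonoidAlgebra ℂ H) (LinearMap.mulLeft ℂ a ∘ₗ LinearMap.mulRight ℂ e) := by
  obtain ⟨co, hco⟩ := (Fintype.linearCombination ℂ b).exists_leftInverse_of_injective
    (LinearMap.ker_eq_bot.2 (linearIndependent_iff_injective_fintypeLinearCombination.1 r.li))
  have h1 : ∀ x : κ → ℂ, co (∑ l, x l • b l) = x := fun x => LinearMap.congr_fun hco x
  have h2 : ∀ y, e * y * e = y → ∑ l, co y l • b l = y := fun y hy => by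
    obtain ⟨x, rfl⟩ := (Submodule.mem_span_range_iff_exists_fun ℂ).1 (r.mem_iff.2 hy)
    rw [h1]
  let Φ : MonoidAlgebra ℂ H →ₗ[ℂ] Matrix κ κ ℂ :=
    { toFun := fun a => Matrix.of fun l m => co (a * b m) l
      map_add' := fun a a' => by
        ext l m
        simp only [Matrix.of_apply, Matrix.add_apply, add_mul, map_add, Pi.add_apply]
      map_smul' := fun c a => by
        ext l m
        simp only [Matrix.of_apply, Matrix.smul_apply, smul_mul_assoc, map_smul, Pi.smul_apply, RingHom.id_apply] }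
  refine ⟨Φ, fun a A h => ?_, fun a ha m => (h2 _ ?_).symm, fun a ha => ?_⟩
  · ext l m
    change co (a * b m) l = A l m
    rw [h, h1]
  · rw [← mul_assoc, ha, mul_assoc, mul_assoc, ← mul_assoc e, r.mem]
  · have h3 : LinearMap.mulLeft ℂ a ∘ₗ LinearMap.mulRight ℂ e =
        Fintype.linearCombination ℂ b ∘ₗ (co ∘ₗ (LinearMap.mulLeft ℂ a ∘ₗ LinearMap.mulRight ℂ e)) := by
      refine LinearMap.ext fun y => (h2 (a * (y * e)) ?_).symm
      rw [← mul_assoc, r.left ha, mul_assoc, mul_assoc, r.idem]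
    rw [h3, LinearMap.trace_comp_comm', ← Matrix.trace_toLin'_eq]
    congr 1
    refine (Pi.basisFun ℂ κ).ext fun m => funext fun l => ?_
    simp only [Pi.basisFun_apply, Matrix.toLin'_apply, Matrix.mulVec_single_one, LinearMap.comp_apply,
      Fintype.linearCombination_apply_single, one_smul, LinearMap.mulRight_apply, LinearMap.mulLeft_apply,
      r.right (r.mem m)]
    rfl

/-- the blocks of `e ℂH e` -/
theorem exists_sys [Fintype (IrrCharacter H)] : ∃ c : {χ : IrrCharacter H // lin (χ : H → ℂ) e ≠ 0} → Matrix κ κ ℂ,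
    Sys T c ∧ ∀ i, (c i).trace = lin (i.1 : H → ℂ) e ^ 2 ∧
      ∀ z (μ : ℂ), E z * c i = μ • c i ↔ lin (i.1 : H → ℂ) (f z) = μ * (i.1 : H → ℂ) 1 := by
  obtain ⟨Φ, h1, h2, h3⟩ := r.exists_rep
  have hT : ∀ k, Φ (b k) = T k := fun k => h1 _ _ (r.mul k)
  have hE : ∀ z, Φ (f z) = E z := fun z => h1 _ _ (r.act z)
  have hc : ∀ {a}, e * a * e = a → e * a = a * e := fun ha => (r.left ha).trans (r.right ha).symm
  have hmul : ∀ a a', e * a = a * e → e * a' = a' * e → Φ (a * a') = Φ a * Φ a' := fun a a' ha ha' => by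
    refine h1 _ _ fun m => ?_
    rw [mul_assoc, h2 a' ha', Finset.mul_sum]
    simp only [mul_smul_comm, h2 a ha, Finset.smul_sum, smul_smul, Matrix.mul_apply, Finset.sum_smul]
    rw [Finset.sum_comm]
    exact Finset.sum_congr rfl fun l _ => Finset.sum_congr rfl fun k _ => by rw [mul_comm]
  have hone : Φ e = 1 := h1 _ _ fun m => by
    simp only [Matrix.one_apply, ite_smul, one_smul, zero_smul, Finset.sum_ite_eq', Finset.mem_univ, if_true]
    exact r.left (r.mem m)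
  have hinj : ∀ a, e * a * e = a → Φ a = 0 → a = 0 := fun a ha h0 => by
    obtain ⟨x, hx⟩ := (Submodule.mem_span_range_iff_exists_fun ℂ).1 (r.mem_iff.2 (by rw [r.idem, r.idem] : e * e * e = e))
    rw [← r.right ha, ← hx, Finset.mul_sum]
    refine Finset.sum_eq_zero fun m _ => ?_
    rw [mul_smul_comm, h2 a (hc ha), h0]
    simp only [Matrix.zero_apply, zero_smul, Finset.sum_const_zero, smul_zero]
  have hmem : ∀ a, e * a * e = a → Φ a ∈ Al T := fun a ha => by
    obtain ⟨x, rfl⟩ := (Submodule.mem_span_range_iff_exists_fun ℂ).1 (r.mem_iff.2 ha)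
    rw [map_sum]
    exact Submodule.sum_mem _ fun k _ => by
      rw [map_smul, hT]
      exact Submodule.smul_mem _ _ (mem_Al T k)
  have hi : ∀ χ : IrrCharacter H, e * (ep {χ} * e) * e = ep {χ} * e := fun χ => by
    rw [← mul_assoc, ← H992.HT.idem_comm, mul_assoc _ e e, r.idem, mul_assoc, r.idem]
  have hid : ∀ χ : IrrCharacter H, ep {χ} * e * (ep {χ} * e) = ep {χ} * e := fun χ => by
    rw [mul_assoc, r.left (hi χ), ← mul_assoc, idem_mul_idem]
  have hl : ∀ χ ψ : IrrCharacter H, lin (ψ : H → ℂ) (ep {χ} * e) = if ψ = χ then lin (ψ : H → ℂ) e else 0 :=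
    fun χ ψ => (H992.HT.lin_idem_mul {χ} ψ e).trans (if_congr Set.mem_singleton_iff rfl rfl)
  have hne : ∀ χ : IrrCharacter H, lin (χ : H → ℂ) e ≠ 0 → Φ (ep {χ} * e) ≠ 0 := fun χ h h0 => by
    have h4 := hl χ χ
    rw [hinj _ (hi χ) h0, map_zero, if_pos rfl] at h4
    exact h h4.symm
  refine ⟨fun i => Φ (ep {i.1} * e), ⟨fun i => hmem _ (hi _), fun i k => ?_, fun i => ?_, ?_, fun i => hne _ i.2,
    fun A hA hA' i => ?_⟩, fun i => ⟨?_, fun z μ => ?_⟩⟩
  · rw [← hT, ← hmul _ _ (hc (hi _)) (hc (r.mem k)), ← hmul _ _ (hc (r.mem k)) (hc (hi _)), mul_assoc,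
      r.left (r.mem k), ← mul_assoc, ← H992.HT.idem_comm, mul_assoc, r.right (r.mem k)]
  · rw [← hmul _ _ (hc (hi _)) (hc (hi _)), hid]
  · rw [← map_sum, ← hone]
    congr 1
    conv_rhs => rw [← one_mul e, ← sum_idem, Finset.sum_mul]
    rw [← Finset.sum_subtype (Finset.univ.filter fun χ : IrrCharacter H => lin (χ : H → ℂ) e ≠ 0) (by simp)
      fun χ => ep {χ} * e]
    refine Finset.sum_filter_of_ne fun χ _ h h0 => h (H992.HT.idem_eq_zero (hid χ) fun ψ => ?_)
    rw [hl]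
    split_ifs with h4
    · rwa [h4]
    · rfl
  · obtain ⟨x, rfl⟩ := exists_sum hA
    obtain ⟨a, ha⟩ : ∃ a, a = ∑ k, x k • b k := ⟨_, rfl⟩
    have a1 : e * a * e = a := r.mem_iff.1 ((Submodule.mem_span_range_iff_exists_fun ℂ).2 ⟨x, ha.symm⟩)
    have a2 : Φ a = ∑ k, x k • T k := by simp only [ha, map_sum, map_smul, hT]
    have a3 : ∀ y, e * y * e = y → a * y = y * a := fun y hy => by
      rw [← sub_eq_zero]
      refine hinj _ ?_ ?_
      · rw [mul_sub, sub_mul, ← mul_assoc, ← mul_assoc, r.left a1, r.left hy, mul_assoc, mul_assoc, r.right a1,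
          r.right hy]
      · rw [map_sub, hmul _ _ (hc a1) (hc hy), hmul _ _ (hc hy) (hc a1), a2, comm_of hA' (hmem y hy), sub_self]
    have a4 : Sc a * e = Sc e * a := by
      have a5 : ∀ y, Sc y * e = e * Sc y * e := fun y => by
        rw [(Subalgebra.mem_center_iff.1 (Sc_mem y)) e, mul_assoc, r.idem]
      rw [← r.left a1, ← mul_assoc, r.left a1, a5, a5]
      unfold Sc
      simp only [Finset.mul_sum, Finset.sum_mul]
      refine Finset.sum_congr rfl fun g _ => ?_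
      have a6 := a3 (e * sg g⁻¹ * e) (by rw [← mul_assoc, ← mul_assoc, r.idem, mul_assoc, r.idem])
      rw [← mul_assoc, ← mul_assoc, r.right a1] at a6
      simp only [mul_assoc] at a6 ⊢
      rw [a6]
    have a5 : omega (i.1 : H → ℂ) (Sc e) ≠ 0 := by
      rw [omega_Sc]
      exact div_ne_zero (mul_ne_zero card_ne_zero_complex i.2) (isIrr_apply_one_ne_zero i.1.2)
    have a6 := congrArg (ep {i.1} * ·) a4
    simp only [← mul_assoc, H992.HT.idem_comm _ (Sc _), mul_idem (Sc_mem _), smul_mul_assoc] at a6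
    refine ⟨(omega (i.1 : H → ℂ) (Sc e))⁻¹ * omega (i.1 : H → ℂ) (Sc a), ?_⟩
    rw [← a2, ← hmul _ _ (hc a1) (hc (hi _)), ← map_smul, ← smul_smul, a6, smul_smul, inv_mul_cancel₀ a5, one_smul,
      ← mul_assoc, ← H992.HT.idem_comm, mul_assoc, r.right a1]
  · rw [h3 _ (hi _), trace_two]
    simp only [hl, ite_mul, zero_mul, Finset.sum_ite_eq', Finset.mem_univ, if_true, pow_two]
  · have a1 : f z ∈ Subalgebra.center ℂ (MonoidAlgebra ℂ H) := Subalgebra.mem_center_iff.2 fun x => (r.cen z x).symm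
    rw [← hE, ← hmul _ _ (r.cen z e).symm (hc (hi _)), ← mul_assoc, mul_idem a1, smul_mul_assoc, map_smul,
      (smul_left_injective ℂ (hne _ i.2)).eq_iff, omega_def, div_eq_iff (isIrr_apply_one_ne_zero i.1.2)]

theorem exists_nb (l : Z → ℂ) {d : ℕ} (hd : d ≠ 0) : ∃ (ι : Type) (_ : Fintype ι) (c : ι → Matrix κ κ ℂ),
    Sys T c ∧ nb c E l (d ^ 2) = cnt H e f l d := by
  have := finite_irr (G := H)
  have := Fintype.ofFinite (IrrCharacter H)
  obtain ⟨c, s, h⟩ := r.exists_sys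
  refine ⟨_, inferInstance, c, s, Nat.card_congr
    { toFun := fun i => ⟨i.1.1, i.1.1.2, fun z => ?_, ?_⟩
      invFun := fun χ => ⟨⟨⟨χ.1, χ.2.1⟩, ?_⟩, ?_, fun z => ?_⟩
      left_inv := fun _ => rfl
      right_inv := fun _ => rfl }⟩
  · rw [ev_eq]
    exact ((h i.1).2 z _).1 (i.2.2 z)
  · obtain ⟨m, hm⟩ := H992.HT.exists_nat i.1.1.2 r.idem
    have h1 := i.2.1
    rw [(h i.1).1, hm] at h1
    have h2 : m ^ 2 = d ^ 2 := by exact_mod_cast h1
    rw [ev_eq, hm, Nat.pow_left_injective (by norm_num) h2]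
  · rw [← ev_eq, χ.2.2.2]
    exact Nat.cast_ne_zero.2 hd
  · rw [(h _).1, ← ev_eq, χ.2.2.2, Nat.cast_pow]
  · exact ((h _).2 z _).2 ((ev_eq _ _).symm.trans (χ.2.2.1 z))

end Rz

/-- **the deformation lemma** -/
theorem deform : Deform := by
  intro κ Z H₀ H₁ _ _ _ _ _ _ _ o T E e₀ b₀ f₀ e₁ b₁ f₁ hc hS hE r₀ r₁ l d hd
  obtain ⟨ι, _, c, s, h⟩ := r₀.exists_nb l hd
  obtain ⟨ι', _, c', s', h'⟩ := r₁.exists_nb l hd
  rw [← h, ← h']
  exact nb_const hc hS hE l (pow_ne_zero 2 hd) s s'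

end Cfsg.Agent.MK.Y
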