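import Cfsg.Agent.MK.Y.Fam
import Cfsg.Agent.MK.Y.Sym

/-!
# MK-Y1: the Hecke algebra `e ℂH e` of a self adjoint idempotent with a basis `e n e` (helper15)

`HD e ι len` : the datum.  `HD.count` : the irreducible characters of `H` with `χ e = d` and those of `N` of degree `d` are
equal in number, over every central character.
-/

set_option autoImplicit false
set_option linter.unusedSectionVars false

namespace Cfsg.Agent.MK.Y

open Cfsg Matrix MonoidAlgebra
open scoped ComplexConjugate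

variable {H : Type} [Group H] [Fintype H]

/-- the adjoint in the group algebra -/
noncomputable def sr (a : MonoidAlgebra ℂ H) : MonoidAlgebra ℂ H :=
  .ofCoeff (Finsupp.equivFunOnFinite.symm fun g => conj (a.coeff g⁻¹))

theorem coeff_sr (a : MonoidAlgebra ℂ H) (g : H) : (sr a).coeff g = conj (a.coeff g⁻¹) := rfl

theorem al_ext {a b : MonoidAlgebra ℂ H} (h : ∀ g, a.coeff g = b.coeff g) : a = b :=
  coeff_injective (Finsupp.ext h)

theorem coeff_mul_sum (a b : MonoidAlgebra ℂ H) (g : H) : (a * b).coeff g = ∑ h, a.coeff h * b.coeff (h⁻¹ * g) := by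
  rw [coeff_mul_apply_left, Finsupp.sum_fintype _ _ (by simp)]

theorem sr_mul (a b : MonoidAlgebra ℂ H) : sr (a * b) = sr b * sr a := by
  refine al_ext fun g => ?_
  rw [coeff_sr, coeff_mul_sum, coeff_mul_sum, map_sum]
  refine Fintype.sum_equiv (Equiv.mulLeft g) _ _ fun h => ?_
  simp [coeff_sr, mul_comm]

theorem sr_single (g : H) : sr (single g (1 : ℂ)) = single g⁻¹ 1 := by
  classical
  refine al_ext fun h => ?_
  have e : g = h⁻¹ ↔ g⁻¹ = h := by rw [inv_eq_iff_eq_inv]
  simp only [coeff_sr, coeff_single, Finsupp.single_apply, e]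
  split_ifs <;> simp

theorem sr_smul (x : ℝ) (a : MonoidAlgebra ℂ H) : sr ((x : ℂ) • a) = (x : ℂ) • sr a := by
  refine al_ext fun g => ?_
  simp [coeff_sr]

/-- the scalar product -/
noncomputable def ip (a b : MonoidAlgebra ℂ H) : ℂ := ∑ g, a.coeff g * conj (b.coeff g)

theorem ip_conj (a b : MonoidAlgebra ℂ H) : conj (ip a b) = ip b a := by
  simp [ip, mul_comm]

theorem ip_add (a a' b : MonoidAlgebra ℂ H) : ip (a + a') b = ip a b + ip a' b := by
  simp [ip, add_mul, Finset.sum_add_distrib]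

theorem ip_smul (c : ℂ) (a b : MonoidAlgebra ℂ H) : ip (c • a) b = c * ip a b := by
  simp [ip, Finset.mul_sum, mul_assoc]

theorem ip_smul' (x : ℝ) (a b : MonoidAlgebra ℂ H) : ip a ((x : ℂ) • b) = x * ip a b := by
  rw [← ip_conj, ip_smul, map_mul, ip_conj, Complex.conj_ofReal]

/-- the scalar product as a linear form -/
noncomputable def ipL (b : MonoidAlgebra ℂ H) : MonoidAlgebra ℂ H →ₗ[ℂ] ℂ where
  toFun a := ip a b
  map_add' a a' := ip_add a a' b
  map_smul' c a := ip_smul c a b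

theorem ip_sum {κ : Type} (s : Finset κ) (f : κ → MonoidAlgebra ℂ H) (b : MonoidAlgebra ℂ H) :
    ip (∑ k ∈ s, f k) b = ∑ k ∈ s, ip (f k) b := map_sum (ipL b) f s

theorem ip_span {S : Set (MonoidAlgebra ℂ H)} {a b : MonoidAlgebra ℂ H} (ha : a ∈ Submodule.span ℂ S)
    (h : ∀ x ∈ S, ip x b = 0) : ip a b = 0 :=
  (Submodule.span_le (p := LinearMap.ker (ipL b))).2 h ha

theorem ip_mul (a x y : MonoidAlgebra ℂ H) : ip x (a * y) = ip (sr a * x) y := by
  simp only [ip, coeff_mul_sum, coeff_sr, map_sum, Finset.mul_sum, Finset.sum_mul, map_mul]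
  rw [Finset.sum_comm]
  conv_rhs => rw [Finset.sum_comm]
  refine Fintype.sum_equiv (Equiv.inv H) _ _ fun h => ?_
  refine Fintype.sum_equiv (Equiv.mulLeft h⁻¹) _ _ fun g => ?_
  simp only [Equiv.inv_apply, inv_inv, Equiv.coe_mulLeft, mul_inv_cancel_left]
  ring

theorem ip_one (a : MonoidAlgebra ℂ H) : ip a 1 = a.coeff 1 := by
  classical
  rw [ip, Finset.sum_eq_single 1]
  · simp
  · intro g _ hg
    rw [one_def, coeff_single, Finsupp.single_apply, if_neg hg.symm]
    simp
  · simp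

/-- the square of the norm -/
noncomputable def nq (a : MonoidAlgebra ℂ H) : ℝ := ∑ g, Complex.normSq (a.coeff g)

theorem ip_self (a : MonoidAlgebra ℂ H) : ip a a = nq a := by
  simp [ip, nq, Complex.mul_conj]

theorem nq_pos {a : MonoidAlgebra ℂ H} (h : a ≠ 0) : 0 < nq a := by
  obtain ⟨g, hg⟩ : ∃ g, a.coeff g ≠ 0 := by
    by_contra hc
    exact h (al_ext fun g => by simpa using not_exists.1 hc g)
  exact Finset.sum_pos' (fun _ _ => Complex.normSq_nonneg _) ⟨g, Finset.mem_univ _, Complex.normSq_pos.2 hg⟩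

theorem nq_sr (a : MonoidAlgebra ℂ H) : nq (sr a) = nq a :=
  Fintype.sum_equiv (Equiv.inv H) _ _ fun g => by simp [coeff_sr]

variable {N : Type} [Group N]

/-- the element `e n e` -/
noncomputable def hk (e : MonoidAlgebra ℂ H) (ι : N →* H) (n : N) : MonoidAlgebra ℂ H := e * single (ι n) 1 * e

/-- **the datum** : a self adjoint idempotent `e` with `e ℂH e` spanned by the `e n e`, which multiply as in a Hecke algebra -/
structure HD (e : MonoidAlgebra ℂ H) (ι : N →* H) (len : N → ℕ) : Prop where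
  ln : Len len
  idem : e * e = e
  sa : ∀ g, e.coeff g⁻¹ = conj (e.coeff g)
  span : ∀ g, e * single g 1 * e ∈ Submodule.span ℂ (Set.range (hk e ι))
  ne : ∀ n, len n ≤ 1 → hk e ι n ≠ 0
  tr0 : ∀ n, n ≠ 1 → (hk e ι n).coeff 1 = 0
  zero : ∀ t, len t = 0 → e * single (ι t) 1 = single (ι t) 1 * e
  up : ∀ s n, len s = 1 → len (s * n) = len n + 1 → hk e ι s * hk e ι n = hk e ι (s * n)
  quad : ∀ s, len s = 1 →
    hk e ι s * hk e ι s⁻¹ ∈ Submodule.span ℂ (insert e {x | ∃ t, len t = 0 ∧ x = hk e ι (t * s⁻¹)})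

/-- the normalised basis -/
noncomputable def ob (e : MonoidAlgebra ℂ H) (ι : N →* H) (n : N) : MonoidAlgebra ℂ H :=
  ((√(nq e / nq (hk e ι n)) : ℝ) : ℂ) • hk e ι n

/-- the matrices of the regular representation -/
noncomputable def mt (e : MonoidAlgebra ℂ H) (ι : N →* H) (a : N) : Matrix N N ℂ :=
  fun k n => ip (ob e ι a * ob e ι n) (ob e ι k) / nq e

namespace HD

variable {e : MonoidAlgebra ℂ H} {ι : N →* H} {len : N → ℕ} (D : HD e ι len)
include D

theorem sr_e : sr e = e := al_ext fun g => by rw [coeff_sr, D.sa, Complex.conj_conj]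

theorem sr_hk (n : N) : sr (hk e ι n) = hk e ι n⁻¹ := by
  rw [hk, hk, sr_mul, sr_mul, D.sr_e, sr_single, map_inv, mul_assoc]

theorem hk_one : hk e ι 1 = e := by rw [hk, map_one, ← one_def, mul_one, D.idem]

theorem e_hk (n : N) : e * hk e ι n = hk e ι n := by rw [hk, ← mul_assoc, ← mul_assoc, D.idem]

theorem hk_e (n : N) : hk e ι n * e = hk e ι n := by rw [hk, mul_assoc, D.idem]

theorem single_hk {t : N} (ht : len t = 0) (n : N) : single (ι t) 1 * hk e ι n = hk e ι (t * n) := by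
  rw [hk, hk, ← mul_assoc, ← mul_assoc, ← D.zero t ht, mul_assoc e, single_mul_single, one_mul, map_mul]

theorem hk_zero {t : N} (ht : len t = 0) (n : N) : hk e ι t * hk e ι n = hk e ι (t * n) := by
  rw [hk, mul_assoc, D.e_hk, mul_assoc, D.single_hk ht, D.e_hk]

theorem up' {a n : N} (ha : len a ≤ 1) (h : len (a * n) = len a + len n) : hk e ι a * hk e ι n = hk e ι (a * n) := by
  by_cases h0 : len a = 0
  · exact D.hk_zero h0 n
  · exact D.up a n (by omega) (by omega)

theorem down {s : N} (hs : len s = 1) : ∃ c : ℂ, ∀ n, len (s * n) + 1 = len n →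
    ∃ y ∈ Submodule.span ℂ {x | ∃ j, len j = len n ∧ x = hk e ι j}, hk e ι s * hk e ι n = c • hk e ι (s * n) + y := by
  obtain ⟨c, z, hz, h⟩ := Submodule.mem_span_insert.1 (D.quad s hs)
  refine ⟨c, fun n hn => ⟨z * hk e ι (s * n), ?_, ?_⟩⟩
  all_goals
    have e1 : hk e ι s⁻¹ * hk e ι (s * n) = hk e ι n := by
      rw [D.up s⁻¹ _ (by rw [D.ln.inv, hs]) (by rw [inv_mul_cancel_left, hn]), inv_mul_cancel_left]
  · clear h
    induction hz using Submodule.span_induction with
    | mem x hx =>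
      obtain ⟨t, ht, rfl⟩ := hx
      rw [← D.hk_zero ht, mul_assoc, e1, D.hk_zero ht]
      exact Submodule.subset_span ⟨_, D.ln.zero t ht n, rfl⟩
    | zero => simp
    | add x y _ _ hx hy => rw [add_mul]; exact add_mem hx hy
    | smul a x _ hx => rw [smul_mul_assoc]; exact Submodule.smul_mem _ _ hx
  · rw [← e1, ← mul_assoc, h, add_mul, smul_mul_assoc, D.e_hk]

theorem orth_le (m : N) : ∀ n, len m ≤ len n → n ≠ m → ip (hk e ι n) (hk e ι m) = 0 := by
  induction m using D.ln.indL with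
  | h0 t ht =>
    intro n _ hn
    rw [← mul_one (hk e ι t), ip_mul, D.sr_hk, D.hk_zero (by rwa [D.ln.inv]), ip_one]
    exact D.tr0 _ fun h => hn (by rw [inv_mul_eq_one] at h; exact h.symm)
  | h1 s m hs hl ih =>
    intro n hn hne
    have hs' : len s⁻¹ = 1 := by rw [D.ln.inv, hs]
    have hne' : s⁻¹ * n ≠ m := fun h => hne (by rw [← h, mul_inv_cancel_left])
    rw [← D.up s m hs hl, ip_mul, D.sr_hk]
    rcases D.ln.step _ hs' n with h | h
    · rw [D.up _ _ hs' h]
      exact ih _ (by omega) hne'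
    · obtain ⟨c, hc⟩ := D.down hs'
      obtain ⟨y, hy, h2⟩ := hc n h
      rw [h2, ip_add, ip_smul, ih _ (by omega) hne', mul_zero, zero_add]
      refine ip_span hy ?_
      rintro x ⟨j, hj, rfl⟩
      exact ih j (by omega) fun h3 => by rw [h3] at hj; omega

theorem orth {m n : N} (h : n ≠ m) : ip (hk e ι n) (hk e ι m) = 0 := by
  rcases le_total (len m) (len n) with h1 | h1
  · exact D.orth_le m n h1 h
  · rw [← ip_conj, D.orth_le n m h1 h.symm, map_zero]

theorem nq_zero {t : N} (ht : len t = 0) (n : N) : nq (hk e ι (t * n)) = nq (hk e ι n) := by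
  have h : ip (hk e ι (t * n)) (hk e ι t * hk e ι n) = ip (hk e ι n) (hk e ι n) := by
    rw [ip_mul, D.sr_hk, D.hk_zero (by rwa [D.ln.inv]), inv_mul_cancel_left]
  rw [D.hk_zero ht, ip_self, ip_self] at h
  exact_mod_cast h

theorem nq_mul {a n : N} (ha : len a ≤ 1) (h : len (a * n) = len a + len n) :
    nq e * nq (hk e ι (a * n)) = nq (hk e ι a) * nq (hk e ι n) := by
  by_cases h0 : len a = 0
  · have := D.nq_zero h0 1
    rw [mul_one, D.hk_one] at this
    rw [D.nq_zero h0, this]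
  have hs : len a = 1 := by omega
  obtain ⟨c, hc⟩ := D.down (s := a⁻¹) (by rw [D.ln.inv, hs])
  have key : ∀ m, len (a * m) = len m + 1 → (nq (hk e ι (a * m)) : ℂ) = c * nq (hk e ι m) := by
    intro m hm
    obtain ⟨y, hy, h2⟩ := hc (a * m) (by rw [inv_mul_cancel_left, hm])
    have h3 : ip y (hk e ι m) = 0 := by
      refine ip_span hy ?_
      rintro x ⟨j, hj, rfl⟩
      exact D.orth fun h3 => by rw [h3] at hj; omega
    rw [← ip_self]
    conv_lhs => enter [2]; rw [← D.up a m hs hm]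
    rw [ip_mul, D.sr_hk, h2, ip_add, h3, add_zero, ip_smul, inv_mul_cancel_left, ip_self]
  have h1 := key 1 (by rw [mul_one, hs, D.ln.one])
  have h2 := key n (by omega)
  rw [mul_one, D.hk_one] at h1
  have : (nq e : ℂ) * nq (hk e ι (a * n)) = nq (hk e ι a) * nq (hk e ι n) := by rw [h1, h2]; ring
  exact_mod_cast this

theorem nq_e : 0 < nq e := by
  have := nq_pos (D.ne 1 (by rw [D.ln.one]; omega))
  rwa [D.hk_one] at this

theorem nq_hk (n : N) : 0 < nq (hk e ι n) := by
  induction n using D.ln.indL with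
  | h0 t ht => exact nq_pos (D.ne t (by omega))
  | h1 s m hs hl ih =>
    have h := D.nq_mul (a := s) (n := m) hs.le (by omega)
    have h2 := mul_pos (nq_pos (D.ne s hs.le)) ih
    rw [← h] at h2
    exact (mul_pos_iff_of_pos_left D.nq_e).1 h2

theorem nq_ne : ((nq e : ℝ) : ℂ) ≠ 0 := by exact_mod_cast D.nq_e.ne'

theorem nb_one : ob e ι 1 = e := by rw [ob, D.hk_one, div_self D.nq_e.ne', Real.sqrt_one, Complex.ofReal_one, one_smul]

theorem sr_nb (n : N) : sr (ob e ι n) = ob e ι n⁻¹ := by rw [ob, ob, sr_smul, ← D.sr_hk, nq_sr]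

theorem nb_up {a n : N} (ha : len a ≤ 1) (h : len (a * n) = len a + len n) : ob e ι a * ob e ι n = ob e ι (a * n) := by
  rw [ob, ob, ob, smul_mul_assoc, mul_smul_comm, smul_smul, D.up' ha h, ← Complex.ofReal_mul,
    ← Real.sqrt_mul (div_pos D.nq_e (D.nq_hk a)).le]
  congr 3
  rw [div_mul_div_comm, ← D.nq_mul ha h, mul_div_mul_left _ _ D.nq_e.ne']

variable [DecidableEq N]

theorem ip_nb (m n : N) : ip (ob e ι m) (ob e ι n) = if n = m then (nq e : ℂ) else 0 := by
  rw [ob, ob, ip_smul, ip_smul']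
  split_ifs with h
  · subst h
    rw [ip_self, ← mul_assoc, ← Complex.ofReal_mul, Real.mul_self_sqrt (div_pos D.nq_e (D.nq_hk n)).le,
      ← Complex.ofReal_mul, div_mul_cancel₀ _ (D.nq_hk n).ne']
  · rw [D.orth (Ne.symm h), mul_zero, mul_zero]

theorem hk_mem (n : N) : hk e ι n ∈ Submodule.span ℂ (Set.range (ob e ι)) := by
  have h0 : ((√(nq e / nq (hk e ι n)) : ℝ) : ℂ) ≠ 0 := by
    exact_mod_cast (Real.sqrt_pos.2 (div_pos D.nq_e (D.nq_hk n))).ne'
  have : hk e ι n = ((√(nq e / nq (hk e ι n)) : ℝ) : ℂ)⁻¹ • ob e ι n := by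
    rw [ob, smul_smul, inv_mul_cancel₀ h0, one_smul]
  rw [this]
  exact Submodule.smul_mem _ _ (Submodule.subset_span ⟨n, rfl⟩)

theorem span' (g : H) : e * single g 1 * e ∈ Submodule.span ℂ (Set.range (ob e ι)) :=
  Submodule.span_le.2 (by rintro _ ⟨n, rfl⟩; exact D.hk_mem n) (D.span g)

theorem corner (x : MonoidAlgebra ℂ H) : e * x * e ∈ Submodule.span ℂ (Set.range (ob e ι)) := by
  induction x using MonoidAlgebra.induction_on with
  | of g => exact D.span' g
  | add a b ha hb => rw [mul_add, add_mul]; exact add_mem ha hb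
  | smul c a ha => rw [mul_smul_comm, smul_mul_assoc]; exact Submodule.smul_mem _ _ ha

theorem e_nb (n : N) : e * ob e ι n = ob e ι n := by rw [ob, mul_smul_comm, D.e_hk]

theorem nb_e (n : N) : ob e ι n * e = ob e ι n := by rw [ob, smul_mul_assoc, D.hk_e]

variable [Fintype N]

theorem expand {x : MonoidAlgebra ℂ H} (hx : x ∈ Submodule.span ℂ (Set.range (ob e ι))) :
    x = ∑ k, (ip x (ob e ι k) / nq e) • ob e ι k := by
  obtain ⟨c, rfl⟩ := (Submodule.mem_span_range_iff_exists_fun ℂ).1 hx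
  refine Finset.sum_congr rfl fun k _ => ?_
  congr 1
  rw [ip_sum, Finset.sum_eq_single k]
  · rw [ip_smul, D.ip_nb, if_pos rfl, mul_div_cancel_right₀ _ D.nq_ne]
  · intro j _ hj
    rw [ip_smul, D.ip_nb, if_neg hj.symm, mul_zero]
  · simp

theorem nb_mul (a m : N) : ob e ι a * ob e ι m = ∑ l, mt e ι a l m • ob e ι l := by
  have := D.corner (ob e ι a * ob e ι m)
  rw [← mul_assoc, D.e_nb, mul_assoc, D.nb_e] at this
  exact D.expand this

theorem mt_up {a n : N} (ha : len a ≤ 1) (h : len (a * n) = len a + len n) (k : N) :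
    mt e ι a k n = if k = a * n then 1 else 0 := by
  rw [mt, D.nb_up ha h, D.ip_nb]
  split_ifs
  · exact div_self D.nq_ne
  · simp

theorem dm : Dm len (mt e ι) where
  ln := D.ln
  col n k := by
    rw [mt, D.nb_one, D.nb_e, D.ip_nb]
    split_ifs
    · exact div_self D.nq_ne
    · simp
  mul m n := by
    ext i j
    have h1 : ip (ob e ι m * (ob e ι n * ob e ι j)) (ob e ι i) / nq e = (mt e ι m * mt e ι n) i j := by
      rw [D.nb_mul n j, Finset.mul_sum, ip_sum, Finset.sum_div, Matrix.mul_apply]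
      refine Finset.sum_congr rfl fun l _ => ?_
      rw [mul_smul_comm, ip_smul, mul_div_assoc, mul_comm]
      rfl
    rw [← h1, ← mul_assoc, D.nb_mul m n, Finset.sum_mul, ip_sum, Finset.sum_div, Matrix.sum_apply]
    refine Finset.sum_congr rfl fun l _ => ?_
    rw [smul_mul_assoc, ip_smul, mul_div_assoc]
    rfl
  star a := by
    ext k n
    rw [conjTranspose_apply, mt, mt, ← D.sr_nb, ← ip_mul, ← ip_conj (ob e ι a * ob e ι k)]
    simp
  up a n ha h k := D.mt_up ha h k
  down s hs k n hk' := by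
    rcases D.ln.step s hs n with h | h
    · exact D.mt_up hs.le (by omega) k
    have hs' : len s⁻¹ = 1 := by rw [D.ln.inv, hs]
    split_ifs with h1
    · subst h1
      have h2 := D.nb_up (a := s⁻¹) (n := s * n) hs'.le (by rw [inv_mul_cancel_left]; omega)
      rw [inv_mul_cancel_left] at h2
      have h3 := D.sr_nb s⁻¹
      rw [inv_inv] at h3
      rw [mt, ← h3, ← ip_mul, h2, D.ip_nb, if_pos rfl, div_self D.nq_ne]
    · obtain ⟨c, hc⟩ := D.down hs
      obtain ⟨y, hy, h2⟩ := hc n h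
      have h3 : ip y (hk e ι k) = 0 := by
        refine ip_span hy ?_
        rintro x ⟨j, hj, rfl⟩
        exact D.orth fun h3 => hk' (by rw [← h3, hj])
      rw [mt, ob, ob, ob, smul_mul_assoc, mul_smul_comm, ip_smul, ip_smul, ip_smul', h2, ip_add, ip_smul, h3,
        D.orth (Ne.symm h1)]
      simp

theorem li : LinearIndependent ℂ (ob e ι) := by
  rw [Fintype.linearIndependent_iff]
  intro c hc k
  have h : ip (∑ i, c i • ob e ι i) (ob e ι k) = 0 := by
    rw [hc]
    exact map_zero (ipL _)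
  rw [ip_sum, Finset.sum_eq_single k] at h
  · rw [ip_smul, D.ip_nb, if_pos rfl] at h
    exact (mul_eq_zero.1 h).resolve_right D.nq_ne
  · intro j _ hj
    rw [ip_smul, D.ip_nb, if_neg hj.symm, mul_zero]
  · simp

theorem inj : Function.Injective ι := by
  refine (injective_iff_map_eq_one ι).2 fun n hn => ?_
  by_contra h
  have h1 := D.orth h
  rw [hk, hn, ← one_def, mul_one, D.idem, D.hk_one, ip_self] at h1
  exact D.nq_ne h1

end HD

theorem sum_lam [Fintype N] [DecidableEq N] {V : Type} [AddCommGroup V] [Module ℂ V] (b : N → V) (a m : N) :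
    ∑ l, lam a l m • b l = b (a * m) := by
  rw [Finset.sum_eq_single (a * m)]
  · simp [lam]
  · intro j _ hj
    simp [lam, hj]
  · simp

theorem single_comm {z : H} (hz : z ∈ Subgroup.center H) (x : MonoidAlgebra ℂ H) :
    single z (1 : ℂ) * x = x * single z 1 :=
  al_ext fun g => by
    rw [coeff_single_mul_apply, coeff_mul_single_apply, one_mul, mul_one,
      Subgroup.mem_center_iff.1 (inv_mem hz) g]

/-- **the deformation theorem for an idempotent** -/
theorem HD.count [Fintype N] {e : MonoidAlgebra ℂ H} {ι : N →* H} {len : N → ℕ} (D : HD e ι len)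
    {Z : Type} [Finite Z] (ζ : Z → N) (hc : ∀ z, ι (ζ z) ∈ Subgroup.center H) (h0 : ∀ z, len (ζ z) = 0) (l : Z → ℂ)
    {d : ℕ} (hd : d ≠ 0) :
    Nat.card {χ : H → ℂ // IsIrrCharacter H χ ∧ (∀ z, χ (ι (ζ z)) = l z * χ 1) ∧ ev χ e = d} =
      Nat.card {ψ : N → ℂ // IsIrrCharacter N ψ ∧ (∀ z, ψ (ζ z) = l z * ψ 1) ∧ ψ 1 = d} := by
  classical
  obtain ⟨F, hF, col, mul, star, h1, hz, z0, zc⟩ := D.dm.exists_fam
  have hc' : ∀ z n, ζ z * n = n * ζ z := fun z n => D.inj (by
    rw [map_mul, map_mul, Subgroup.mem_center_iff.1 (hc z)])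
  have key := deform N Z N H 1 F (fun z => lam (ζ z)) 1 (fun n => single n 1) (fun z => single (ζ z) 1) e (ob e ι)
    (fun z => single (ι (ζ z)) 1) hF (fun x => ⟨col x, ?_, fun a b => ?_, fun a => ⟨a⁻¹, 1, by simp, by
      rw [one_smul, star]⟩⟩) (fun x => ⟨fun z => ?_, fun z a => zc x _ (h0 z) (hc' z) a⟩)
    ⟨one_mul _, fun a => by simp, fun g => ?_, ?_, fun a m => ?_, fun z x => ?_, fun z m => ?_⟩
    ⟨D.idem, fun a => by rw [D.e_nb, D.nb_e], D.span', D.li, fun a m => ?_, fun z x => single_comm (hc z) x,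
      fun z m => ?_⟩ l d hd
  · simp only [cnt, ev_single, one_mul, one_def] at key
    exact key.symm
  · have : F x 1 = 1 := by
      rw [z0 x 1 D.ln.one]
      ext k n
      simp [lam, Matrix.one_apply]
    exact Submodule.subset_span ⟨1, this⟩
  · rw [mul]
    exact Submodule.sum_mem _ fun k _ => Submodule.smul_mem _ _ (Submodule.subset_span ⟨k, rfl⟩)
  · exact Submodule.subset_span ⟨ζ z, z0 x _ (h0 z)⟩
  · exact Submodule.subset_span ⟨g, by simp⟩
  · exact (MonoidAlgebra.basis N ℂ).linearIndependent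
  · rw [hz, sum_lam (fun n => single n (1 : ℂ)), single_mul_single, one_mul]
  · exact single_comm (Subgroup.mem_center_iff.2 fun n => (hc' z n).symm) x
  · rw [sum_lam (fun n => single n (1 : ℂ)), single_mul_single, one_mul]
  · rw [h1, D.nb_mul]
  · rw [sum_lam, ob, ob, mul_smul_comm, D.single_hk (h0 z), D.nq_zero (h0 z)]

end Cfsg.Agent.MK.Y
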