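import Cfsg.Agent.MK.Y.SymDefs

/-!
# MK (S4596): the Casimir operator and the primitive central idempotents of a symmetric algebra (helper72)
-/

set_option autoImplicit false
set_option linter.unusedSectionVars false

namespace Cfsg.Agent.MK.Y

open Cfsg Matrix
open scoped ComplexConjugate ComplexOrder

variable {κ : Type} [Fintype κ] [DecidableEq κ] {o : κ} {T : κ → Matrix κ κ ℂ}

/-- the algebra -/
abbrev Al (T : κ → Matrix κ κ ℂ) : Submodule ℂ (Matrix κ κ ℂ) := Submodule.span ℂ (Set.range T)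

theorem mem_Al (T : κ → Matrix κ κ ℂ) (a : κ) : T a ∈ Al T := Submodule.subset_span ⟨a, rfl⟩

theorem exists_sum {a : Matrix κ κ ℂ} (ha : a ∈ Al T) : ∃ x : κ → ℂ, a = ∑ k, x k • T k := by
  obtain ⟨x, hx⟩ := (Submodule.mem_span_range_iff_exists_fun ℂ).1 ha
  exact ⟨x, hx.symm⟩

theorem comm_of {a b : Matrix κ κ ℂ} (ha : ∀ k, a * T k = T k * a) (hb : b ∈ Al T) : a * b = b * a := by
  obtain ⟨x, rfl⟩ := exists_sum hb
  rw [Finset.mul_sum, Finset.sum_mul]
  exact Finset.sum_congr rfl fun k _ => by rw [mul_smul_comm, smul_mul_assoc, ha]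

/-- the Casimir operator -/
noncomputable def Cas (T : κ → Matrix κ κ ℂ) (a : Matrix κ κ ℂ) : Matrix κ κ ℂ := ∑ k, T k * a * (T k)ᴴ

/-- the element which acts on the block `c` by `ζ² / τ c` -/
noncomputable def Om (T : κ → Matrix κ κ ℂ) : Matrix κ κ ℂ := ∑ k, Cas T (T k) * Cas T (T k)ᴴ

/-- the element which acts on the block `c` by its dimension -/
noncomputable def Dl (T : κ → Matrix κ κ ℂ) : Matrix κ κ ℂ := Cas T 1 ^ 3 * (Om T)⁻¹

/-- a complete system of primitive central idempotents -/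
structure Sys (T : κ → Matrix κ κ ℂ) {ι : Type} [Fintype ι] (c : ι → Matrix κ κ ℂ) : Prop where
  mem : ∀ i, c i ∈ Al T
  comm : ∀ i k, c i * T k = T k * c i
  idem : ∀ i, c i * c i = c i
  sum : ∑ i, c i = 1
  ne : ∀ i, c i ≠ 0
  prim : ∀ a ∈ Al T, (∀ k, a * T k = T k * a) → ∀ i, ∃ μ : ℂ, a * c i = μ • c i

namespace SA

variable (h : SA o T)

include h

theorem eq_sum {a : Matrix κ κ ℂ} (ha : a ∈ Al T) : a = ∑ k, a k o • T k := by
  obtain ⟨x, rfl⟩ := exists_sum ha
  refine Finset.sum_congr rfl fun k _ => ?_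
  congr 1
  rw [Matrix.sum_apply, Finset.sum_eq_single k, Matrix.smul_apply, h.col, if_pos rfl, smul_eq_mul, mul_one]
  · intro m _ hm
    rw [Matrix.smul_apply, h.col, if_neg hm.symm, smul_zero]
  · exact fun h => absurd (Finset.mem_univ k) h

theorem mul_mem {a b : Matrix κ κ ℂ} (ha : a ∈ Al T) (hb : b ∈ Al T) : a * b ∈ Al T := by
  obtain ⟨x, rfl⟩ := exists_sum ha
  obtain ⟨y, rfl⟩ := exists_sum hb
  rw [Finset.sum_mul]
  refine Submodule.sum_mem _ fun k _ => ?_
  rw [Finset.mul_sum]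
  refine Submodule.sum_mem _ fun m _ => ?_
  rw [mul_smul_comm, smul_mul_assoc]
  exact Submodule.smul_mem _ _ (Submodule.smul_mem _ _ (h.mul k m))

theorem star_mem {a : Matrix κ κ ℂ} (ha : a ∈ Al T) : aᴴ ∈ Al T := by
  obtain ⟨x, rfl⟩ := exists_sum ha
  rw [conjTranspose_sum]
  refine Submodule.sum_mem _ fun k _ => ?_
  obtain ⟨b, c, -, hb⟩ := h.star k
  rw [conjTranspose_smul, hb]
  exact Submodule.smul_mem _ _ (Submodule.smul_mem _ _ (mem_Al T b))

theorem mul_col (a : Matrix κ κ ℂ) (k l : κ) : (a * T k) l o = a l k := by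
  rw [Matrix.mul_apply, Finset.sum_eq_single k, h.col, if_pos rfl, mul_one]
  · intro m _ hm
    rw [h.col, if_neg hm, mul_zero]
  · exact fun h => absurd (Finset.mem_univ k) h

theorem star_row (a : Matrix κ κ ℂ) (k l : κ) : ((T k)ᴴ * a) o l = a k l := by
  have h1 := congrArg Star.star (h.mul_col aᴴ k l)
  rwa [← conjTranspose_apply, conjTranspose_mul, conjTranspose_conjTranspose, conjTranspose_apply, star_star] at h1

theorem tau_basis (a b : κ) : (T a * T b) o o = (T b * T a) o o := by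
  have key : ∀ a b, (T a * T b) o o ≠ 0 → (T a * T b) o o = (T b * T a) o o := by
    intro a b h0
    obtain ⟨m, c, hc, hm⟩ := h.star a
    have h1 : T a = conj c • (T m)ᴴ := by
      have h2 := congrArg conjTranspose hm
      rwa [conjTranspose_conjTranspose, conjTranspose_smul] at h2
    have h2 : (T a * T b) o o = conj c * if m = b then 1 else 0 := by
      rw [h1, smul_mul_assoc, Matrix.smul_apply, h.star_row, h.col, smul_eq_mul]
    obtain rfl : m = b := by
      by_contra h3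
      rw [if_neg h3, mul_zero] at h2
      exact h0 h2
    have h3 : T m = conj c • (T a)ᴴ := by rw [hm, smul_smul, mul_comm, hc, one_smul]
    rw [h2, if_pos rfl]
    conv_rhs => rw [h3, smul_mul_assoc, Matrix.smul_apply, h.star_row, h.col, if_pos rfl, smul_eq_mul]
  by_cases h0 : (T a * T b) o o = 0
  · by_contra h1
    have h2 := key b a fun h3 => h1 (h0.trans h3.symm)
    exact h1 h2.symm
  · exact key a b h0

/-- the entry `(o, o)` is a trace form -/
theorem tau {a b : Matrix κ κ ℂ} (ha : a ∈ Al T) (hb : b ∈ Al T) : (a * b) o o = (b * a) o o := by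
  obtain ⟨x, rfl⟩ := exists_sum ha
  obtain ⟨y, rfl⟩ := exists_sum hb
  simp only [Finset.sum_mul, Finset.mul_sum, mul_smul_comm, smul_mul_assoc, Matrix.sum_apply, Matrix.smul_apply,
    smul_eq_mul]
  rw [Finset.sum_comm]
  refine Finset.sum_congr rfl fun k _ => Finset.sum_congr rfl fun m _ => ?_
  rw [h.tau_basis]
  ring

theorem mul_T {b : Matrix κ κ ℂ} (hb : b ∈ Al T) (k : κ) : b * T k = ∑ l, b l k • T l := by
  rw [h.eq_sum (h.mul_mem hb (mem_Al T k))]
  exact Finset.sum_congr rfl fun l _ => by rw [h.mul_col]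

theorem star_mul {b : Matrix κ κ ℂ} (hb : b ∈ Al T) (l : κ) : (T l)ᴴ * b = ∑ k, b l k • (T k)ᴴ := by
  have h1 := congrArg conjTranspose (h.mul_T (h.star_mem hb) l)
  rw [conjTranspose_mul, conjTranspose_conjTranspose, conjTranspose_sum] at h1
  rw [h1]
  exact Finset.sum_congr rfl fun k _ => by rw [conjTranspose_smul, conjTranspose_apply, star_star]

theorem Cas_comm (a : Matrix κ κ ℂ) {b : Matrix κ κ ℂ} (hb : b ∈ Al T) : Cas T a * b = b * Cas T a := by
  unfold Cas
  rw [Finset.sum_mul, Finset.mul_sum]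
  simp only [← mul_assoc, h.mul_T hb]
  simp only [mul_assoc, h.star_mul hb, Finset.mul_sum, Finset.sum_mul, mul_smul_comm, smul_mul_assoc]
  exact Finset.sum_comm

theorem Cas_mem {a : Matrix κ κ ℂ} (ha : a ∈ Al T) : Cas T a ∈ Al T :=
  Submodule.sum_mem _ fun k _ => h.mul_mem (h.mul_mem (mem_Al T k) ha) (h.star_mem (mem_Al T k))

theorem trace_eq {a : Matrix κ κ ℂ} (ha : a ∈ Al T) : a.trace = (a * Cas T 1) o o := by
  unfold Cas
  rw [Finset.mul_sum, Matrix.sum_apply, Matrix.trace]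
  refine Finset.sum_congr rfl fun k _ => ?_
  rw [mul_one, ← mul_assoc, h.tau (h.mul_mem ha (mem_Al T k)) (h.star_mem (mem_Al T k)), h.star_row, h.mul_col,
    Matrix.diag_apply]

theorem eq_sum' {a : Matrix κ κ ℂ} (ha : a ∈ Al T) : a = ∑ l, (a * T l) o o • (T l)ᴴ := by
  have h1 := congrArg conjTranspose (h.eq_sum (h.star_mem ha))
  rw [conjTranspose_conjTranspose, conjTranspose_sum] at h1
  refine h1.trans (Finset.sum_congr rfl fun l _ => ?_)
  rw [conjTranspose_smul, conjTranspose_apply, star_star, h.mul_col]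

theorem Cas_one : ∑ k, (T k)ᴴ * T k = Cas T 1 := by
  have h1 : ∀ k, (T k)ᴴ * T k = ∑ l, (T k * T l) o o • ((T k)ᴴ * (T l)ᴴ) := fun k => by
    simp only [← mul_smul_comm]
    rw [← Finset.mul_sum, ← h.eq_sum' (mem_Al T k)]
  have h2 : ∀ l, T l * 1 * (T l)ᴴ = ∑ k, (T l * T k) o o • ((T k)ᴴ * (T l)ᴴ) := fun l => by
    simp only [← smul_mul_assoc]
    rw [← Finset.sum_mul, ← h.eq_sum' (mem_Al T l), mul_one]
  unfold Cas
  simp only [h1, h2]
  rw [Finset.sum_comm]
  exact Finset.sum_congr rfl fun l _ => Finset.sum_congr rfl fun k _ => by rw [h.tau_basis]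

theorem eq_zero {a : Matrix κ κ ℂ} (ha : a ∈ Al T) (h0 : (aᴴ * a) o o = 0) : a = 0 := by
  have h1 : ∀ k, a k o = 0 := by
    have h2 : Star.star (fun k => a k o) ⬝ᵥ (fun k => a k o) = 0 := h0
    exact congrFun (dotProduct_star_self_eq_zero.1 h2)
  rw [h.eq_sum ha]
  exact Finset.sum_eq_zero fun k _ => by rw [h1, zero_smul]

theorem star_comm {a : Matrix κ κ ℂ} (ha : ∀ k, a * T k = T k * a) (k : κ) : aᴴ * T k = T k * aᴴ := by
  have h1 := congrArg conjTranspose (comm_of ha (h.star_mem (mem_Al T k)))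
  rw [conjTranspose_mul, conjTranspose_mul, conjTranspose_conjTranspose] at h1
  exact h1.symm

section block

variable {ι : Type} [Fintype ι] {c : ι → Matrix κ κ ℂ} (s : Sys T c)

include s

theorem tau_ne (i : ι) : c i o o ≠ 0 := by
  intro h0
  obtain ⟨μ, hμ⟩ := s.prim _ (h.star_mem (s.mem i)) (h.star_comm (s.comm i)) i
  refine s.ne i (h.eq_zero (s.mem i) ?_)
  rw [hμ, Matrix.smul_apply, h0, smul_zero]

theorem tau_Cas {a : Matrix κ κ ℂ} (ha : a ∈ Al T) (i : ι) : (Cas T a * c i) o o = (a * (Cas T 1 * c i)) o o := by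
  rw [← h.Cas_one]
  unfold Cas
  rw [Finset.sum_mul, Finset.sum_mul, Finset.mul_sum, Matrix.sum_apply, Matrix.sum_apply]
  refine Finset.sum_congr rfl fun k _ => ?_
  rw [mul_assoc, mul_assoc, h.tau (mem_Al T k) (h.mul_mem ha (h.mul_mem (h.star_mem (mem_Al T k)) (s.mem i))),
    mul_assoc, mul_assoc, s.comm, mul_assoc]

/-- the values of the Casimir elements on a block -/
theorem block (i : ι) : ∃ ζ : ℂ, Cas T 1 * c i = ζ • c i ∧ (c i).trace = ζ * c i o o ∧
    Om T * c i = (ζ ^ 2 / c i o o) • c i := by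
  have ht := h.tau_ne s i
  have hp : ∀ a ∈ Al T, ∃ μ : ℂ, Cas T a * c i = μ • c i := fun a ha =>
    s.prim _ (h.Cas_mem ha) (fun k => h.Cas_comm a (mem_Al T k)) i
  obtain ⟨ζ, hζ⟩ := hp 1 h.one
  have h1 : ∀ a ∈ Al T, Cas T a * c i = (ζ * (a * c i) o o / c i o o) • c i := fun a ha => by
    obtain ⟨μ, hμ⟩ := hp a ha
    have h2 := h.tau_Cas s ha i
    rw [hμ, hζ, mul_smul_comm, Matrix.smul_apply, Matrix.smul_apply, smul_eq_mul, smul_eq_mul] at h2
    rw [hμ, ← h2, mul_div_cancel_right₀ _ ht]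
  refine ⟨ζ, hζ, ?_, ?_⟩
  · rw [h.trace_eq (s.mem i), ← h.Cas_comm 1 (s.mem i), hζ, Matrix.smul_apply, smul_eq_mul]
  · have h2 : ∑ k, c i k o * (T k * c i) o o = c i o o := by
      have h3 : c i * c i = ∑ k, c i k o • (T k * c i) := by
        simp only [← smul_mul_assoc]
        rw [← Finset.sum_mul, ← h.eq_sum (s.mem i)]
      rw [s.idem] at h3
      conv_rhs => rw [h3, Matrix.sum_apply]
      rfl
    unfold Om
    rw [Finset.sum_mul]
    simp only [mul_assoc, h1 _ (h.star_mem (mem_Al T _)), mul_smul_comm, h1 _ (mem_Al T _), smul_smul, h.star_row]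
    rw [← Finset.sum_smul]
    congr 1
    have h3 : ∀ k, ζ * c i k o / c i o o * (ζ * (T k * c i) o o / c i o o) =
        ζ ^ 2 / c i o o / c i o o * (c i k o * (T k * c i) o o) := fun k => by ring
    simp only [h3]
    rw [← Finset.mul_sum, h2, div_mul_cancel₀ _ ht]

end block

end SA

theorem trace_idem {c : Matrix κ κ ℂ} (hc : c * c = c) (h0 : c ≠ 0) :
    ∃ D : ℕ, D ≠ 0 ∧ D ≤ Fintype.card κ ∧ c.trace = D := by
  have h1 : IsIdempotentElem (Matrix.toLin' c) := by
    unfold IsIdempotentElem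
    rw [Module.End.mul_eq_comp, ← Matrix.toLin'_mul, hc]
  have h2 := (LinearMap.IsIdempotentElem.isProj_range _ h1).trace
  rw [Matrix.trace_toLin'_eq] at h2
  refine ⟨_, fun h3 => h0 ?_, ?_, h2⟩
  · rw [Submodule.finrank_eq_zero, LinearMap.range_eq_bot] at h3
    exact Matrix.toLin'.injective (h3.trans (map_zero _).symm)
  · exact (Submodule.finrank_le _).trans (by rw [Module.finrank_fintype_fun_eq_card])

/-- `Dl` acts on a block by its dimension -/
theorem SA.Dl_mul (h : SA o T) {ι : Type} [Fintype ι] {c : ι → Matrix κ κ ℂ} (s : Sys T c) :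
    IsUnit (Om T).det ∧ ∀ i, Dl T * c i = (c i).trace • c i := by
  choose ζ h1 h2 h3 using h.block s
  have h4 : ∀ i, ζ i ≠ 0 := fun i h0 => by
    obtain ⟨D, hD, -, h5⟩ := trace_idem (s.idem i) (s.ne i)
    rw [h2, h0, zero_mul] at h5
    exact hD (by exact_mod_cast h5.symm)
  have h5 : ∀ i, ζ i ^ 2 / c i o o ≠ 0 := fun i => div_ne_zero (pow_ne_zero 2 (h4 i)) (h.tau_ne s i)
  have h6 : Om T * ∑ i, (ζ i ^ 2 / c i o o)⁻¹ • c i = 1 := by
    rw [Finset.mul_sum, ← s.sum]
    exact Finset.sum_congr rfl fun i _ => by rw [mul_smul_comm, h3, smul_smul, inv_mul_cancel₀ (h5 i), one_smul]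
  have h7 : IsUnit (Om T).det := Matrix.isUnit_det_of_right_inverse h6
  refine ⟨h7, fun i => ?_⟩
  have h8 : (Om T)⁻¹ * c i = (ζ i ^ 2 / c i o o)⁻¹ • c i := by
    have h9 := congrArg ((Om T)⁻¹ * ·) (h3 i)
    simp only [← mul_assoc, Matrix.nonsing_inv_mul _ h7, one_mul, mul_smul_comm] at h9
    exact ((inv_smul_eq_iff₀ (h5 i)).2 h9).symm
  have h9 := h.tau_ne s i
  have h10 := h4 i
  unfold Dl
  rw [mul_assoc, h8, mul_smul_comm, pow_three, mul_assoc, mul_assoc, h1, mul_smul_comm, h1, smul_smul,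
    mul_smul_comm, h1, smul_smul, smul_smul, h2]
  congr 1
  field_simp

/-- the centre -/
def Zc (h : SA o T) : Subalgebra ℂ (Matrix κ κ ℂ) where
  carrier := {a | a ∈ Al T ∧ ∀ k, a * T k = T k * a}
  mul_mem' ha hb := ⟨h.mul_mem ha.1 hb.1, fun k => by rw [mul_assoc, hb.2, ← mul_assoc, ha.2, mul_assoc]⟩
  add_mem' ha hb := ⟨add_mem ha.1 hb.1, fun k => by rw [add_mul, mul_add, ha.2, hb.2]⟩
  algebraMap_mem' r := ⟨by rw [Algebra.algebraMap_eq_smul_one]; exact Submodule.smul_mem _ _ h.one,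
    fun k => Algebra.commutes r (T k)⟩

theorem exists_idem (R : Type) [CommRing R] [Algebra ℂ R] [Module.Finite ℂ R] [IsReduced R] :
    ∃ (ι : Type) (_ : Fintype ι) (c : ι → R), (∀ i, c i * c i = c i) ∧ ∑ i, c i = 1 ∧ (∀ i, c i ≠ 0) ∧
      ∀ a i, ∃ μ : ℂ, a * c i = μ • c i := by
  classical
  have : IsArtinianRing R := IsArtinianRing.of_finite ℂ R
  let _ : Fintype (MaximalSpectrum R) := Fintype.ofFinite _
  let φ := IsArtinianRing.equivPi R
  refine ⟨MaximalSpectrum R, inferInstance, fun i => φ.symm (Pi.single i 1), fun i => ?_, ?_, fun i h0 => ?_,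
    fun a i => ?_⟩
  · rw [← map_mul, ← Pi.single_mul, mul_one]
  · rw [← map_sum]
    exact (congrArg φ.symm (Finset.univ_sum_single (1 : ∀ I : MaximalSpectrum R, R ⧸ I.asIdeal))).trans (map_one _)
  · have h1 := congrFun (φ.symm.injective (h0.trans (map_zero _).symm)) i
    have := i.isMaximal
    rw [Pi.single_eq_same] at h1
    exact one_ne_zero h1
  · have := i.isMaximal
    obtain ⟨μ, hμ⟩ := (IsAlgClosed.algebraMap_bijective_of_isIntegral (k := ℂ) (K := R ⧸ i.asIdeal)).2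
      (Ideal.Quotient.mk _ a)
    refine ⟨μ, φ.injective ?_⟩
    rw [Algebra.smul_def, map_mul, map_mul, AlgEquiv.apply_symm_apply]
    funext j
    rw [Pi.mul_apply, Pi.mul_apply]
    by_cases hj : j = i
    · subst hj
      rw [IsArtinianRing.equivPi_apply, IsArtinianRing.equivPi_apply]
      exact congrArg (· * _) hμ.symm
    · rw [Pi.single_eq_of_ne hj, mul_zero, mul_zero]

theorem SA.exists_sys (h : SA o T) : ∃ (ι : Type) (_ : Fintype ι) (c : ι → Matrix κ κ ℂ), Sys T c := by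
  let _ : CommRing (Zc h) := { (inferInstance : Ring (Zc h)) with
    mul_comm := fun a b => Subtype.ext (comm_of a.2.2 b.2.1) }
  have : IsReduced (Zc h) := by
    rw [isReduced_iff_pow_one_lt 2 (by norm_num)]
    intro a ha
    have h1 : a.1 * a.1 = 0 := by
      have h2 := congrArg Subtype.val ha
      rwa [pow_two] at h2
    have h2 : (a.1ᴴ * a.1)ᴴ * (a.1ᴴ * a.1) = 0 := by
      rw [conjTranspose_mul, conjTranspose_conjTranspose, mul_assoc, ← mul_assoc a.1, comm_of a.2.2 (h.star_mem a.2.1),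
        mul_assoc, h1, mul_zero, mul_zero]
    exact Subtype.ext (conjTranspose_mul_self_eq_zero.1 (conjTranspose_mul_self_eq_zero.1 h2))
  obtain ⟨ι, _, c, h1, h2, h3, h4⟩ := exists_idem (Zc h)
  refine ⟨ι, inferInstance, fun i => (c i).1, fun i => (c i).2.1, fun i => (c i).2.2,
    fun i => congrArg Subtype.val (h1 i), ?_, fun i h0 => h3 i (Subtype.ext h0), fun a ha hb i => ?_⟩
  · exact (map_sum (Zc h).val c Finset.univ).symm.trans (congrArg Subtype.val h2)
  · obtain ⟨μ, hμ⟩ := h4 ⟨a, ha, hb⟩ i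
    exact ⟨μ, congrArg Subtype.val hμ⟩

end Cfsg.Agent.MK.Y
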