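import Cfsg.Agent.MK.Y.SymA

/-!
# MK (S4596): the number of blocks of a given dimension is constant in a continuous family (helper72)
-/

set_option autoImplicit false
set_option linter.unusedSectionVars false

namespace Cfsg.Agent.MK.Y

open Cfsg Matrix Polynomial
open scoped ComplexConjugate Classical

variable {κ : Type} [Fintype κ] [DecidableEq κ]

theorem aeval_mul {a c : Matrix κ κ ℂ} {μ : ℂ} (h : a * c = μ • c) (P : ℂ[X]) : aeval a P * c = P.eval μ • c := by
  induction P using Polynomial.induction_on' with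
  | add P Q hP hQ => rw [map_add, add_mul, hP, hQ, eval_add, add_smul]
  | monomial n r =>
    have h1 : a ^ n * c = μ ^ n • c := by
      induction n with
      | zero => rw [pow_zero, pow_zero, one_mul, one_smul]
      | succ n ih => rw [pow_succ, mul_assoc, h, mul_smul_comm, ih, smul_smul, pow_succ']
    rw [aeval_monomial, eval_monomial, mul_assoc, h1, ← Algebra.smul_def, smul_smul]

theorem exists_poly (S : Finset ℂ) (r : ℂ) : ∃ P : ℂ[X], ∀ μ ∈ S, P.eval μ = if μ = r then 1 else 0 :=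
  ⟨Lagrange.interpolate S id fun μ => if μ = r then 1 else 0, fun _ hμ =>
    Lagrange.eval_interpolate_at_node (fun μ => if μ = r then (1 : ℂ) else 0) (Set.injOn_id _) hμ⟩

/-- a projection to an eigenspace -/
theorem exists_proj (a : Matrix κ κ ℂ) (r : ℂ) : ∃ F : Matrix κ κ ℂ, ∀ (c : Matrix κ κ ℂ) (μ : ℂ), c ≠ 0 → a * c = μ • c →
    F * c = (if μ = r then (1 : ℂ) else 0) • c := by
  obtain ⟨P, hP⟩ := exists_poly a.charpoly.roots.toFinset r
  refine ⟨aeval a P, fun c μ hc h => ?_⟩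
  have h1 := aeval_mul h a.charpoly
  rw [Matrix.aeval_self_charpoly, zero_mul] at h1
  have h2 : a.charpoly.eval μ = 0 := (smul_eq_zero.1 h1.symm).resolve_right hc
  rw [aeval_mul h, hP μ (Multiset.mem_toFinset.2 ((mem_roots a.charpoly_monic.ne_zero).2 h2))]

theorem exists_proj_all {Z : Type} [Finite Z] (E : Z → Matrix κ κ ℂ) (l : Z → ℂ) : ∃ F : Matrix κ κ ℂ,
    ∀ c : Matrix κ κ ℂ, c ≠ 0 → (∀ z, ∃ μ : ℂ, E z * c = μ • c) →
      F * c = (if ∀ z, E z * c = l z • c then (1 : ℂ) else 0) • c := by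
  have key : ∀ L : List Z, ∃ F : Matrix κ κ ℂ, ∀ c : Matrix κ κ ℂ, c ≠ 0 → (∀ z, ∃ μ : ℂ, E z * c = μ • c) →
      F * c = (if ∀ z ∈ L, E z * c = l z • c then (1 : ℂ) else 0) • c := by
    intro L
    induction L with
    | nil => exact ⟨1, fun c _ _ => by simp⟩
    | cons z L ih =>
      obtain ⟨F, hF⟩ := ih
      obtain ⟨G, hG⟩ := exists_proj (E z) (l z)
      refine ⟨G * F, fun c hc h => ?_⟩
      obtain ⟨μ, hμ⟩ := h z
      have h1 : E z * c = l z • c ↔ μ = l z := by
        rw [hμ]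
        exact ⟨fun h2 => smul_left_injective ℂ hc h2, fun h2 => by rw [h2]⟩
      rw [mul_assoc, hF c hc h, mul_smul_comm, hG c μ hc hμ, smul_smul]
      simp only [List.forall_mem_cons, h1]
      by_cases h2 : μ = l z <;> by_cases h3 : ∀ z ∈ L, E z * c = l z • c <;> simp [h2, h3]
  have := Fintype.ofFinite Z
  obtain ⟨F, hF⟩ := key (Finset.univ : Finset Z).toList
  refine ⟨F, fun c hc h => ?_⟩
  rw [hF c hc h]
  by_cases h1 : ∀ z, E z * c = l z • c
  · rw [if_pos h1, if_pos fun z _ => h1 z]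
  · rw [if_neg h1, if_neg fun h2 => h1 fun z => h2 z (Finset.mem_toList.2 (Finset.mem_univ z))]

/-- the number of blocks of dimension `D` with given central values -/
noncomputable def nb {ι Z : Type} (c : ι → Matrix κ κ ℂ) (E : Z → Matrix κ κ ℂ) (l : Z → ℂ) (D : ℕ) : ℕ :=
  Nat.card {i // (c i).trace = D ∧ ∀ z, E z * c i = l z • c i}

theorem trace_formula {o : κ} {T : κ → Matrix κ κ ℂ} (h : SA o T) {ι Z : Type} [Fintype ι] {c : ι → Matrix κ κ ℂ}
    (s : Sys T c) {E : Z → Matrix κ κ ℂ} (hE : Cen T E) {l : Z → ℂ} {D : ℕ} {P : ℂ[X]} {F : Matrix κ κ ℂ}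
    (hP : ∀ j : ℕ, j ≤ Fintype.card κ → P.eval (j : ℂ) = if (j : ℂ) = D then 1 else 0)
    (hF : ∀ c : Matrix κ κ ℂ, c ≠ 0 → (∀ z, ∃ μ : ℂ, E z * c = μ • c) →
      F * c = (if ∀ z, E z * c = l z • c then (1 : ℂ) else 0) • c) :
    (aeval (Dl T) P * F).trace = D * nb c E l D := by
  have h1 : ∀ i, (aeval (Dl T) P * F * c i).trace =
      if (c i).trace = D ∧ ∀ z, E z * c i = l z • c i then (D : ℂ) else 0 := fun i => by
    obtain ⟨j, -, hj, h2⟩ := trace_idem (s.idem i) (s.ne i)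
    rw [mul_assoc, hF _ (s.ne i) fun z => s.prim _ (hE.mem z) (hE.comm z) i, mul_smul_comm,
      aeval_mul ((h.Dl_mul s).2 i), Matrix.trace_smul, Matrix.trace_smul, h2, hP j hj]
    by_cases h3 : (j : ℂ) = D <;> by_cases h4 : ∀ z, E z * c i = l z • c i <;> simp [h3, h4]
  rw [← mul_one (aeval (Dl T) P * F), ← s.sum, Finset.mul_sum, Matrix.trace_sum]
  simp only [h1]
  rw [← Finset.sum_filter, Finset.sum_const, nsmul_eq_mul, mul_comm, nb, Nat.card_eq_fintype_card, Fintype.card_subtype]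

theorem continuous_Dl {o : κ} {T : ℝ → κ → Matrix κ κ ℂ} (hc : ∀ a, Continuous fun x => T x a) (hS : ∀ x, SA o (T x)) :
    Continuous fun x => Dl (T x) := by
  have h1 : ∀ f : ℝ → Matrix κ κ ℂ, Continuous f → Continuous fun x => Cas (T x) (f x) := fun f hf =>
    continuous_finsetSum _ fun k _ => ((hc k).mul hf).mul (hc k).matrix_conjTranspose
  have h2 : Continuous fun x => Om (T x) :=
    continuous_finsetSum _ fun k _ => (h1 _ (hc k)).mul (h1 _ (hc k).matrix_conjTranspose)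
  refine ((h1 _ continuous_const).pow 3).mul (continuous_iff_continuousAt.2 fun x => ?_)
  obtain ⟨ι, _, c, s⟩ := (hS x).exists_sys
  obtain ⟨u, hu⟩ := ((hS x).Dl_mul s).1
  refine ContinuousAt.comp (g := fun A : Matrix κ κ ℂ => A⁻¹) (continuousAt_matrix_inv _ ?_) h2.continuousAt
  rw [← hu]
  exact NormedRing.inverse_continuousAt u

/-- **constancy** -/
theorem nb_const {o : κ} {T : ℝ → κ → Matrix κ κ ℂ} (hc : ∀ a, Continuous fun x => T x a) (hS : ∀ x, SA o (T x))
    {Z : Type} [Finite Z] {E : Z → Matrix κ κ ℂ} (hE : ∀ x, Cen (T x) E) (l : Z → ℂ) {D : ℕ} (hD : D ≠ 0) {x y : ℝ}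
    {ι ι' : Type} [Fintype ι] [Fintype ι'] {c : ι → Matrix κ κ ℂ} {c' : ι' → Matrix κ κ ℂ} (s : Sys (T x) c)
    (s' : Sys (T y) c') : nb c E l D = nb c' E l D := by
  obtain ⟨P, hP⟩ := exists_poly ((Finset.range (Fintype.card κ + 1)).image Nat.cast) D
  have hP' : ∀ j : ℕ, j ≤ Fintype.card κ → P.eval (j : ℂ) = if (j : ℂ) = D then 1 else 0 := fun j hj =>
    hP _ (Finset.mem_image_of_mem _ (Finset.mem_range.2 (by omega)))
  obtain ⟨F, hF⟩ := exists_proj_all E l
  have hD' : (D : ℂ) ≠ 0 := Nat.cast_ne_zero.2 hD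
  have h1 : Continuous fun x => (aeval (Dl (T x)) P * F).trace / D :=
    (((P.continuous_aeval.comp (continuous_Dl hc hS)).mul continuous_const).matrix_trace).div_const _
  have h2 : ∀ x, ∃ n : ℕ, (n : ℂ) = (aeval (Dl (T x)) P * F).trace / D := fun x => by
    obtain ⟨ι, _, c, s⟩ := (hS x).exists_sys
    exact ⟨_, by rw [trace_formula (hS x) s (hE x) hP' hF, mul_div_cancel_left₀ _ hD']⟩
  choose n hn using h2
  have h3 : Continuous n := by
    rw [Nat.isClosedEmbedding_coe_real.isInducing.continuous_iff]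
    exact (Complex.continuous_re.comp h1).congr fun x => by
      rw [Function.comp_apply, ← hn x, Complex.natCast_re, Function.comp_apply]
  have h4 : n x = n y := PreconnectedSpace.constant inferInstance h3
  have h5 := hn x
  rw [h4, hn y, trace_formula (hS x) s (hE x) hP' hF, trace_formula (hS y) s' (hE y) hP' hF,
    mul_div_cancel_left₀ _ hD', mul_div_cancel_left₀ _ hD'] at h5
  exact_mod_cast h5.symm

end Cfsg.Agent.MK.Y
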