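import Cfsg.Agent.Blocks.GroupAlg

/-!
# MK (S4596): symmetric algebras in a continuous family, the interface (helper72)
-/

set_option autoImplicit false

namespace Cfsg.Agent.MK.Y

open Cfsg Matrix
open scoped ComplexConjugate

section defs

variable {κ : Type} [Fintype κ] [DecidableEq κ]

/-- the matrices `T a` form an orthonormal basis of a star closed algebra with the cyclic vector `e_o` -/
structure SA (o : κ) (T : κ → Matrix κ κ ℂ) : Prop where
  col : ∀ a b, T a b o = if b = a then 1 else 0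
  one : (1 : Matrix κ κ ℂ) ∈ Submodule.span ℂ (Set.range T)
  mul : ∀ a b, T a * T b ∈ Submodule.span ℂ (Set.range T)
  star : ∀ a, ∃ (b : κ) (c : ℂ), c * conj c = 1 ∧ (T a)ᴴ = c • T b

/-- central elements -/
structure Cen (T : κ → Matrix κ κ ℂ) {Z : Type} (E : Z → Matrix κ κ ℂ) : Prop where
  mem : ∀ z, E z ∈ Submodule.span ℂ (Set.range T)
  comm : ∀ z a, E z * T a = T a * E z

/-- `T` is the regular representation of `e ℂH e` in the basis `b` -/
structure Rz (H : Type) [Group H] (e : MonoidAlgebra ℂ H) (b : κ → MonoidAlgebra ℂ H) {Z : Type}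
    (f : Z → MonoidAlgebra ℂ H) (T : κ → Matrix κ κ ℂ) (E : Z → Matrix κ κ ℂ) : Prop where
  idem : e * e = e
  mem : ∀ a, e * b a * e = b a
  span : ∀ g, e * MonoidAlgebra.single g 1 * e ∈ Submodule.span ℂ (Set.range b)
  li : LinearIndependent ℂ b
  mul : ∀ a m, b a * b m = ∑ l, T a l m • b l
  cen : ∀ z x, f z * x = x * f z
  act : ∀ z m, f z * b m = ∑ l, E z l m • b l

end defs

/-- the value of `χ` at an element of the group algebra -/
noncomputable def ev {H : Type} [Group H] [Fintype H] (χ : H → ℂ) (x : MonoidAlgebra ℂ H) : ℂ :=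
  ∑ g, x.coeff g * χ g

theorem ev_eq {H : Type} [Group H] [Fintype H] (χ : H → ℂ) (x : MonoidAlgebra ℂ H) :
    ev χ x = Blocks.GroupAlg.lin χ x := (Blocks.GroupAlg.lin_apply χ x).symm

theorem ev_single {H : Type} [Group H] [Fintype H] (χ : H → ℂ) (g : H) (r : ℂ) :
    ev χ (MonoidAlgebra.single g r) = r * χ g := by rw [ev_eq, Blocks.GroupAlg.lin_single]

/-- the number of irreducible characters with `χ e = d` and given central values -/
noncomputable def cnt (H : Type) [Group H] [Fintype H] (e : MonoidAlgebra ℂ H) {Z : Type} (f : Z → MonoidAlgebra ℂ H)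
    (l : Z → ℂ) (d : ℕ) : ℕ :=
  Nat.card {χ : H → ℂ // IsIrrCharacter H χ ∧ (∀ z, ev χ (f z) = l z * χ 1) ∧ ev χ e = d}

/-- **the deformation lemma** -/
def Deform : Prop :=
  ∀ (κ Z H₀ H₁ : Type) [Fintype κ] [DecidableEq κ] [Finite Z] [Group H₀] [Fintype H₀] [Group H₁] [Fintype H₁]
    (o : κ) (T : ℝ → κ → Matrix κ κ ℂ) (E : Z → Matrix κ κ ℂ)
    (e₀ : MonoidAlgebra ℂ H₀) (b₀ : κ → MonoidAlgebra ℂ H₀) (f₀ : Z → MonoidAlgebra ℂ H₀)
    (e₁ : MonoidAlgebra ℂ H₁) (b₁ : κ → MonoidAlgebra ℂ H₁) (f₁ : Z → MonoidAlgebra ℂ H₁),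
    (∀ a, Continuous fun x => T x a) → (∀ x, SA o (T x)) → (∀ x, Cen (T x) E) →
    Rz H₀ e₀ b₀ f₀ (T 0) E → Rz H₁ e₁ b₁ f₁ (T 1) E →
    ∀ (l : Z → ℂ) (d : ℕ), d ≠ 0 → cnt H₀ e₀ f₀ l d = cnt H₁ e₁ f₁ l d

end Cfsg.Agent.MK.Y
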